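import Mathlib

/-!
Interface for the recognition of the first Janko group `J1` (S0448, S0449, S1644).

* `F x` : the derived subgroup of the centraliser of `x` (the `A5` factor when `x` is an involution);
* `Local G` : the local structure (centralisers of elements of order 2, 3, 5) that the local analysis delivers;
* `Gens a b c d e` : five involutions satisfying the defining relations of `J1`.
-/

set_option autoImplicit false

namespace Cfsg.Agent.SporRec.J1.Defs

/-- The derived subgroup of the centraliser of `x`, as a subgroup of `G`. -/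
def F {G : Type*} [Group G] (x : G) : Subgroup G :=
  ⁅Subgroup.centralizer ({x} : Set G), Subgroup.centralizer ({x} : Set G)⁆

/-- The local structure of a group of type `J1`. -/
structure Local (G : Type*) [Group G] : Prop where
  conj : ∀ x y : G, orderOf x = 2 → orderOf y = 2 → ∃ g : G, g * x * g⁻¹ = y
  cent : ∀ x : G, orderOf x = 2 →
    Nonempty (Subgroup.centralizer ({x} : Set G) ≃* Multiplicative (ZMod 2) × alternatingGroup (Fin 5))
  two : ¬ 16 ∣ Nat.card G
  typeRule : ∀ x y : G, orderOf x = 2 → orderOf y = 2 → x ≠ y → x * y = y * x →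
    (y ∈ F x ↔ x ∉ F y)
  cent3 : ∀ w : G, orderOf w = 3 → Nat.card (Subgroup.centralizer ({w} : Set G)) = 30
  cent5 : ∀ v : G, orderOf v = 5 → Nat.card (Subgroup.centralizer ({v} : Set G)) = 30

/-- Five involutions satisfying the defining relations of `J1`: Coxeter diagram
`a -5- b -3- c -5- d -3- e` and `(abc)^5 = e`, `(bcd)^5 = 1`, `(cde)^5 = 1`. -/
structure Gens {G : Type*} [Group G] (a b c d e : G) : Prop where
  a2 : a * a = 1
  b2 : b * b = 1
  c2 : c * c = 1
  d2 : d * d = 1
  e2 : e * e = 1
  ab : (a * b) ^ 5 = 1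
  bc : (b * c) ^ 3 = 1
  cd : (c * d) ^ 5 = 1
  de : (d * e) ^ 3 = 1
  ac : a * c = c * a
  ad : a * d = d * a
  ae : a * e = e * a
  bd : b * d = d * b
  be : b * e = e * b
  ce : c * e = e * c
  abc : (a * b * c) ^ 5 = e
  bcd : (b * c * d) ^ 5 = 1
  cde : (c * d * e) ^ 5 = 1

end Cfsg.Agent.SporRec.J1.Defs
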