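import Mathlib
import Cfsg.Agent.SporRec.J1.Defs

/-!
The centraliser of an involution of type `2 × A5`: description by an injective homomorphism from `A5`.
-/

set_option autoImplicit false

namespace Cfsg.Agent.SporRec.J1.CentFacts

open Cfsg.Agent.SporRec.J1.Defs
open scoped commutatorElement

/-- abbreviation for `A5`. -/
abbrev A5 := alternatingGroup (Fin 5)

/-- the involution `(0 1)(2 3)` -/
def a0 : A5 := ⟨Equiv.swap 0 1 * Equiv.swap 2 3, by rw [Equiv.Perm.mem_alternatingGroup]; decide⟩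

theorem A5_conj_a0 : ∀ b : A5, b * b = 1 → b ≠ 1 → ∃ g : A5, g * a0 * g⁻¹ = b := by
  decide +kernel

theorem a0_sq : a0 * a0 = 1 := by decide +kernel

theorem a0_ne : a0 ≠ 1 := by decide +kernel

theorem A5_conj (a b : A5) (ha : a * a = 1) (ha1 : a ≠ 1) (hb : b * b = 1) (hb1 : b ≠ 1) :
    ∃ g : A5, g * a * g⁻¹ = b := by
  obtain ⟨g, rfl⟩ := A5_conj_a0 a ha ha1
  obtain ⟨h, rfl⟩ := A5_conj_a0 b hb hb1
  exact ⟨h * g⁻¹, by group⟩

/-- every involution of `A5` commutes with another one -/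
theorem A5_exists_comm (a : A5) (ha : a * a = 1) (ha1 : a ≠ 1) :
    ∃ b : A5, b * b = 1 ∧ b ≠ 1 ∧ b ≠ a ∧ a * b = b * a := by
  have key : ∃ b : A5, b * b = 1 ∧ b ≠ 1 ∧ b ≠ a0 ∧ a0 * b = b * a0 := by decide +kernel
  obtain ⟨g, rfl⟩ := A5_conj_a0 a ha ha1
  obtain ⟨b, h1, h2, h3, h4⟩ := key
  refine ⟨g * b * g⁻¹, ?_, ?_, ?_, ?_⟩
  · calc g * b * g⁻¹ * (g * b * g⁻¹) = g * (b * b) * g⁻¹ := by group
      _ = 1 := by rw [h1]; group
  · intro h; exact h2 (conj_eq_one_iff.mp h)
  · intro h; exact h3 (mul_left_cancel (mul_right_cancel h))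
  · calc g * a0 * g⁻¹ * (g * b * g⁻¹) = g * (a0 * b) * g⁻¹ := by group
      _ = g * (b * a0) * g⁻¹ := by rw [h4]
      _ = _ := by group

/-- orders of the elements of `A5` -/
theorem A5_pow (a : A5) : a ^ 2 = 1 ∨ a ^ 3 = 1 ∨ a ^ 5 = 1 := by
  revert a; decide +kernel

/-- elements of order 3 and 5 are inverted by involutions -/
theorem A5_inverted (a : A5) : ∃ s : A5, s * s = 1 ∧ s ≠ 1 ∧ s * a * s = a⁻¹ := by
  revert a; decide +kernel

theorem A5_exists_three : ∃ a : A5, orderOf a = 3 := by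
  refine ⟨⟨c[0, 1, 2], by rw [Equiv.Perm.mem_alternatingGroup]; decide⟩, ?_⟩
  exact orderOf_eq_prime (by decide +kernel) (by decide +kernel)

theorem A5_exists_five : ∃ a : A5, orderOf a = 5 := by
  refine ⟨⟨c[0, 1, 2, 3, 4], by rw [Equiv.Perm.mem_alternatingGroup]; decide⟩, ?_⟩
  have : Fact (Nat.Prime 5) := ⟨by norm_num⟩
  exact orderOf_eq_prime (by decide +kernel) (by decide +kernel)

/-- the centraliser in `A5` of an element of order 3 or 5 has odd order, stated as: no involution commutes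
with an element of order different from 1, 2 -/
theorem A5_comm_inv (a b : A5) (hb : b * b = 1) (hb1 : b ≠ 1) (hab : a * b = b * a) : a ^ 2 = 1 := by
  have key : ∀ a : A5, a * a0 = a0 * a → a ^ 2 = 1 := by decide +kernel
  obtain ⟨g, rfl⟩ := A5_conj_a0 b hb hb1
  have h1 : (g⁻¹ * a * g) * a0 = a0 * (g⁻¹ * a * g) := by
    calc (g⁻¹ * a * g) * a0 = g⁻¹ * (a * (g * a0 * g⁻¹)) * g := by group
      _ = g⁻¹ * ((g * a0 * g⁻¹) * a) * g := by rw [hab]
      _ = _ := by group
  have h2 := key _ h1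
  have h3 : (g⁻¹ * a * g) ^ 2 = g⁻¹ * a ^ 2 * g := by
    rw [pow_two, pow_two]; group
  rw [h3] at h2
  have h4 : a ^ 2 = g * (g⁻¹ * a ^ 2 * g) * g⁻¹ := by group
  rw [h4, h2]; group

variable {G : Type*} [Group G]

/-- description of the centraliser of an involution `x` -/
structure CentData (x : G) (φ : A5 →* G) : Prop where
  inj : Function.Injective φ
  range : ∀ g : G, g ∈ F x ↔ ∃ a, φ a = g
  comm : ∀ a, x * φ a = φ a * x
  cover : ∀ g, g * x = x * g → ∃ a, g = φ a ∨ g = x * φ a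
  ne : ∀ a, φ a ≠ x

theorem exists_centData (x : G) (hx : orderOf x = 2)
    (he : Nonempty (Subgroup.centralizer ({x} : Set G) ≃* Multiplicative (ZMod 2) × A5)) :
    ∃ φ : A5 →* G, CentData x φ := by
  obtain ⟨e⟩ := he
  have hxC : x ∈ Subgroup.centralizer ({x} : Set G) := by
    rw [Subgroup.mem_centralizer_singleton_iff]
  set C := Subgroup.centralizer ({x} : Set G) with hC
  -- e x is central
  have hxe : ∀ y : Multiplicative (ZMod 2) × A5, e ⟨x, hxC⟩ * y = y * e ⟨x, hxC⟩ := by
    intro y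
    obtain ⟨c, rfl⟩ := e.surjective y
    rw [← map_mul, ← map_mul]
    congr 1
    apply Subtype.ext
    exact ((Subgroup.mem_centralizer_singleton_iff.mp c.2)).symm
  have h2 : (e ⟨x, hxC⟩).2 = 1 := by
    have key : ∀ b : A5, (∀ y : A5, b * y = y * b) → b = 1 := by decide +kernel
    apply key
    intro y
    have := hxe (1, y)
    exact congrArg Prod.snd this
  have hxne : x ≠ 1 := by
    intro h; rw [h, orderOf_one] at hx; omega
  have h1 : (e ⟨x, hxC⟩).1 ≠ 1 := by
    intro h
    have h3 : e ⟨x, hxC⟩ = 1 := Prod.ext h h2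
    rw [map_eq_one_iff e e.injective] at h3
    exact hxne (congrArg Subtype.val h3)
  have hz : ∀ c : Multiplicative (ZMod 2), c = 1 ∨ c = (e ⟨x, hxC⟩).1 := by
    have key : ∀ c d : Multiplicative (ZMod 2), d ≠ 1 → c = 1 ∨ c = d := by decide
    exact fun c => key c _ h1
  let φ : A5 →* G := C.subtype.comp (e.symm.toMonoidHom.comp (MonoidHom.inr _ _))
  have hφ : ∀ a, φ a = (e.symm (1, a) : C) := fun a => rfl
  refine ⟨φ, ?_, ?_, ?_, ?_, ?_⟩
  · intro a b hab
    rw [hφ, hφ] at hab
    have := e.symm.injective (Subtype.ext hab)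
    exact congrArg Prod.snd this
  · -- range
    have hF : F x = (commutator C).map C.subtype := by
      rw [F, commutator_def, Subgroup.map_commutator, ← MonoidHom.range_eq_map, Subgroup.range_subtype]
    have hcomm : commutator C = (commutator (Multiplicative (ZMod 2) × A5)).map e.symm.toMonoidHom := by
      rw [commutator_def, commutator_def, Subgroup.map_commutator,
        Subgroup.map_top_of_surjective _ e.symm.surjective]
    have hprod : commutator (Multiplicative (ZMod 2) × A5) = (⊤ : Subgroup A5).map (MonoidHom.inr _ _) := by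
      apply le_antisymm
      · rw [commutator_def, Subgroup.commutator_le]
        rintro ⟨a, b⟩ - ⟨c, d⟩ -
        refine ⟨⁅b, d⁆, trivial, ?_⟩
        apply Prod.ext
        · change (1 : Multiplicative (ZMod 2)) = a * c * a⁻¹ * c⁻¹
          rw [mul_comm a c]; group
        · rfl
      · rw [← commutator_alternatingGroup_eq_top (α := Fin 5) (by simp), commutator_def,
          Subgroup.map_commutator, commutator_def]
        exact Subgroup.commutator_mono le_top le_top
    intro g
    rw [hF, hcomm, hprod, Subgroup.map_map, Subgroup.map_map]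
    constructor
    · rintro ⟨a, -, rfl⟩
      exact ⟨a, rfl⟩
    · rintro ⟨a, rfl⟩
      exact ⟨a, trivial, rfl⟩
  · intro a
    exact ((Subgroup.mem_centralizer_singleton_iff.mp (e.symm (1, a)).2)).symm
  · intro g hg
    have hgC : g ∈ C := Subgroup.mem_centralizer_singleton_iff.mpr hg
    refine ⟨(e ⟨g, hgC⟩).2, ?_⟩
    rcases hz (e ⟨g, hgC⟩).1 with h | h
    · left
      rw [hφ]
      have : e ⟨g, hgC⟩ = (1, (e ⟨g, hgC⟩).2) := Prod.ext h rfl
      rw [← this, e.symm_apply_apply]
    · right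
      rw [hφ]
      have h3 : e ⟨g, hgC⟩ = e ⟨x, hxC⟩ * (1, (e ⟨g, hgC⟩).2) := by
        apply Prod.ext
        · rw [h, Prod.fst_mul, mul_one]
        · rw [Prod.snd_mul, h2, one_mul]
      have h4 : (⟨g, hgC⟩ : C) = ⟨x, hxC⟩ * e.symm (1, (e ⟨g, hgC⟩).2) := by
        apply e.injective
        rw [map_mul, e.apply_symm_apply]
        exact h3
      exact congrArg Subtype.val h4
  · intro a h
    rw [hφ] at h
    have h3 : e.symm (1, a) = ⟨x, hxC⟩ := Subtype.ext h
    have h4 : (1, a) = e ⟨x, hxC⟩ := by rw [← h3, e.apply_symm_apply]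
    exact h1 (congrArg Prod.fst h4).symm

end Cfsg.Agent.SporRec.J1.CentFacts
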