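import Mathlib
import Cfsg.Agent.SporRec.J1.CentFacts
import Cfsg.Agent.Involutions.CommonInvolution

/-!
Closing step of the recognition of `J1`, part A: a subgroup `H` containing the centraliser (in `G`) of each of
its involutions has one class of involutions, and contains the centralisers of its elements of order 3, 5.
-/

set_option autoImplicit false

namespace Cfsg.Agent.SporRec.J1.EqTopA

open Cfsg.Agent.SporRec.J1.Defs Cfsg.Agent.SporRec.J1.CentFacts

variable {G : Type*} [Group G]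

theorem ord2_iff {x : G} : orderOf x = 2 ↔ x * x = 1 ∧ x ≠ 1 := by
  rw [orderOf_eq_iff (by norm_num)]
  constructor
  · rintro ⟨h1, h2⟩
    refine ⟨by rw [← pow_two, h1], ?_⟩
    intro h
    exact h2 1 (by norm_num) (by norm_num) (by rw [h, one_pow])
  · rintro ⟨h1, h2⟩
    refine ⟨by rw [pow_two, h1], ?_⟩
    intro m hm hm0 hx
    have : m = 1 := by omega
    rw [this, pow_one] at hx
    exact h2 hx

/-- data: `H` contains the centralisers of its involutions, and it has one. -/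
structure Emb (H : Subgroup G) : Prop where
  loc : Local G
  ex : ∃ t ∈ H, orderOf t = 2
  cen : ∀ x ∈ H, orderOf x = 2 → ∀ g : G, g * x = x * g → g ∈ H

variable {H : Subgroup G}

theorem comm_conj_aux (E : Emb H) (x y : G) (hx : orderOf x = 2) (hy : orderOf y = 2)
    (hxH : x ∈ H) (hyH : y ∈ H) (hxy : x ≠ y) (hc : x * y = y * x) (hF : y ∈ F x) (hF' : x ∉ F y) :
    ∃ g ∈ H, g * x * g⁻¹ = y := by
  obtain ⟨φ, hφ⟩ := exists_centData x hx (E.loc.cent x hx)
  obtain ⟨ψ, hψ⟩ := exists_centData y hy (E.loc.cent y hy)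
  obtain ⟨hx2, hx1⟩ := ord2_iff.mp hx
  obtain ⟨hy2, hy1⟩ := ord2_iff.mp hy
  obtain ⟨v, hv⟩ := (hφ.range y).mp hF
  obtain ⟨v', hv' | hv'⟩ := hψ.cover x hc
  · exact absurd ((hψ.range x).mpr ⟨v', hv'.symm⟩) hF'
  have hv2 : v' * v' = 1 := by
    apply hψ.inj
    rw [map_mul, map_one]
    calc ψ v' * ψ v' = (y * y) * (ψ v' * ψ v') := by rw [hy2, one_mul]
      _ = y * (y * ψ v') * ψ v' := by group
      _ = y * (ψ v' * y) * ψ v' := by rw [hψ.comm]
      _ = (y * ψ v') * (y * ψ v') := by group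
      _ = x * x := by rw [← hv']
      _ = 1 := hx2
  have hv1 : v' ≠ 1 := by
    intro h
    rw [h, map_one, mul_one] at hv'
    exact hxy hv'
  -- a suitable c
  obtain ⟨u, hu2, hu1, huv, hcu⟩ := A5_exists_comm v' hv2 hv1
  have hfind : ∃ u' : A5, u' * u' = 1 ∧ u' ≠ 1 ∧ v' * u' = u' * v' ∧ ∃ b, ψ u' = φ b := by
    have hcx : ψ u * x = x * ψ u := by
      rw [hv']
      calc ψ u * (y * ψ v') = (ψ u * y) * ψ v' := by group
        _ = y * (ψ u * ψ v') := by rw [← hψ.comm]; group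
        _ = y * (ψ v' * ψ u) := by rw [← map_mul, ← map_mul, hcu]
        _ = _ := by group
    obtain ⟨b, hb | hb⟩ := hφ.cover _ hcx
    · exact ⟨u, hu2, hu1, hcu, b, hb⟩
    · refine ⟨u * v', ?_, ?_, ?_, b * v, ?_⟩
      · calc u * v' * (u * v') = u * (v' * u) * v' := by group
          _ = u * (u * v') * v' := by rw [hcu]
          _ = (u * u) * (v' * v') := by group
          _ = 1 := by rw [hu2, hv2, one_mul]
      · intro h
        apply huv
        calc u = (u * v') * v' := by rw [mul_assoc, hv2, mul_one]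
          _ = v' := by rw [h, one_mul]
      · rw [← mul_assoc, hcu]
      · rw [map_mul, map_mul, hb, hv]
        have h1 : ψ v' = y * x := by
          rw [hv', ← mul_assoc, hy2, one_mul]
        rw [h1]
        calc x * φ b * (y * x) = (x * φ b) * (x * y) := by rw [hc]
          _ = (φ b * x) * (x * y) := by rw [hφ.comm]
          _ = φ b * (x * x) * y := by group
          _ = φ b * y := by rw [hx2, mul_one]
  obtain ⟨u', hu'2, hu'1, hcu', b, hb⟩ := hfind
  -- c = ψ u' = φ b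
  have hxc : ∃ g ∈ H, g * x * g⁻¹ = y * ψ u' := by
    obtain ⟨g, hg⟩ := A5_conj v' u' hv2 hv1 hu'2 hu'1
    refine ⟨ψ g, E.cen y hyH hy _ (hψ.comm g).symm, ?_⟩
    rw [hv']
    calc ψ g * (y * ψ v') * (ψ g)⁻¹ = (ψ g * y) * ψ v' * (ψ g)⁻¹ := by group
      _ = y * (ψ g * ψ v' * (ψ g)⁻¹) := by rw [← hψ.comm]; group
      _ = y * ψ (g * v' * g⁻¹) := by rw [map_mul, map_mul, map_inv]
      _ = _ := by rw [hg]
  have hb2 : b * b = 1 := by
    apply hφ.inj
    rw [map_mul, ← hb, ← map_mul, hu'2, map_one, map_one]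
  have hyc : y * ψ u' = φ (v * b) := by rw [map_mul, ← hb, hv]
  have hvv : v * v = 1 := by
    apply hφ.inj
    rw [map_mul, hv, hy2, map_one]
  have hv01 : v ≠ 1 := by
    intro h
    rw [h, map_one] at hv
    exact hy1 hv.symm
  have hvb : v * b = b * v := by
    apply hφ.inj
    rw [map_mul, map_mul, hv, ← hb, hψ.comm]
  have hvb2 : (v * b) * (v * b) = 1 := by
    calc v * b * (v * b) = v * (b * v) * b := by group
      _ = v * (v * b) * b := by rw [hvb]
      _ = (v * v) * (b * b) := by group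
      _ = 1 := by rw [hvv, hb2, one_mul]
  have hvb1 : v * b ≠ 1 := by
    intro h
    have h1 : y * ψ u' = 1 := by rw [hyc, h, map_one]
    apply hψ.ne u'
    calc ψ u' = (y * y) * ψ u' := by rw [hy2, one_mul]
      _ = y * (y * ψ u') := by group
      _ = y := by rw [h1, mul_one]
  obtain ⟨g, hgH, hg⟩ := hxc
  obtain ⟨k, hk⟩ := A5_conj (v * b) v hvb2 hvb1 hvv hv01
  refine ⟨φ k * g, H.mul_mem (E.cen x hxH hx _ (hφ.comm k).symm) hgH, ?_⟩
  calc φ k * g * x * (φ k * g)⁻¹ = φ k * (g * x * g⁻¹) * (φ k)⁻¹ := by group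
    _ = φ k * φ (v * b) * (φ k)⁻¹ := by rw [hg, hyc]
    _ = φ (k * (v * b) * k⁻¹) := by rw [map_mul φ (k * (v * b)), map_mul φ k, map_inv]
    _ = y := by rw [hk, hv]

theorem comm_conj (E : Emb H) (x y : G) (hx : orderOf x = 2) (hy : orderOf y = 2)
    (hxH : x ∈ H) (hyH : y ∈ H) (hc : x * y = y * x) :
    ∃ g ∈ H, g * x * g⁻¹ = y := by
  by_cases hxy : x = y
  · exact ⟨1, H.one_mem, by rw [hxy]; group⟩
  by_cases hF : y ∈ F x
  · exact comm_conj_aux E x y hx hy hxH hyH hxy hc hF ((E.loc.typeRule x y hx hy hxy hc).mp hF)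
  · have hF' : x ∈ F y := by
      by_contra h
      exact hF ((E.loc.typeRule x y hx hy hxy hc).mpr h)
    obtain ⟨g, hg, hgx⟩ := comm_conj_aux E y x hy hx hyH hxH (Ne.symm hxy) hc.symm hF' hF
    exact ⟨g⁻¹, H.inv_mem hg, by rw [← hgx]; group⟩

theorem inv_conj [Finite G] (E : Emb H) (x y : G) (hx : orderOf x = 2) (hy : orderOf y = 2)
    (hxH : x ∈ H) (hyH : y ∈ H) : ∃ g ∈ H, g * x * g⁻¹ = y := by
  by_cases hc : IsConj (⟨x, hxH⟩ : H) ⟨y, hyH⟩
  · obtain ⟨c, hc⟩ := isConj_iff.mp hc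
    exact ⟨c, c.2, congrArg Subtype.val hc⟩
  · obtain ⟨z, hz, hzx, hzy, -⟩ := Cfsg.Agent.Involutions.CommonInvolution.exists_common_involution
      (⟨x, hxH⟩ : H) ⟨y, hyH⟩ (by rw [← Subgroup.orderOf_coe]; exact hx)
      (by rw [← Subgroup.orderOf_coe]; exact hy) hc
    have hz2 : orderOf (z : G) = 2 := by rw [Subgroup.orderOf_coe]; exact hz
    obtain ⟨g, hg, hgx⟩ := comm_conj E x z hx hz2 hxH z.2 (congrArg Subtype.val hzx.eq).symm
    obtain ⟨k, hk, hkx⟩ := comm_conj E z y hz2 hy z.2 hyH (congrArg Subtype.val hzy.eq)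
    exact ⟨k * g, H.mul_mem hk hg, by rw [← hkx, ← hgx]; group⟩

theorem not_conj [Finite G] (E : Emb H) (g x : G) (hg : g ∉ H) (hx : orderOf x = 2) (hxH : x ∈ H) :
    g * x * g⁻¹ ∉ H := by
  intro h
  have h2 : orderOf (g * x * g⁻¹) = 2 := by
    rw [ord2_iff] at hx ⊢
    refine ⟨?_, fun h => hx.2 (conj_eq_one_iff.mp h)⟩
    calc g * x * g⁻¹ * (g * x * g⁻¹) = g * (x * x) * g⁻¹ := by group
      _ = 1 := by rw [hx.1]; group
  obtain ⟨k, hk, hkx⟩ := inv_conj E _ x h2 hx h hxH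
  apply hg
  have h3 : (k * g) * x = x * (k * g) := by
    nth_rw 2 [← hkx]
    group
  have h4 := E.cen x hxH hx _ h3
  have h5 := H.mul_mem (H.inv_mem hk) h4
  rwa [← mul_assoc, inv_mul_cancel, one_mul] at h5

end Cfsg.Agent.SporRec.J1.EqTopA
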