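import Mathlib
import Cfsg.Agent.SporRec.J1.EqTopB

/-!
Closing step of the recognition of `J1`, part C: elements of order 3 and 5 of `H`.
-/

set_option autoImplicit false

namespace Cfsg.Agent.SporRec.J1.EqTopC

open Cfsg.Agent.SporRec.J1.Defs Cfsg.Agent.SporRec.J1.CentFacts Cfsg.Agent.SporRec.J1.EqTopA
  Cfsg.Agent.SporRec.J1.EqTopB

variable {G : Type*} [Group G] {H : Subgroup G}

theorem orderOf_dvd_card_of_mem [Finite G] {M : Subgroup G} {x : G} (hx : x ∈ M) : orderOf x ∣ Nat.card M := by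
  have := orderOf_dvd_natCard (⟨x, hx⟩ : M)
  rwa [← Subgroup.orderOf_coe] at this

/-- auxiliary: conjugation by an involution centralising or inverting `c`. -/
theorem conj_mem_zpowers [Finite G] (p q : ℕ) [hp : Fact p.Prime] [hq : Fact q.Prime]
    (hpq : 2 * p * q = 30) (hq2 : q ≠ 2) (hpneq : p ≠ q) (c d x : G) (hc : orderOf c = p)
    (hcard : Nat.card (Subgroup.centralizer ({c} : Set G)) = 30)
    (hd : orderOf d = q) (hdc : d * c = c * d) (hx : x * x = 1)
    (hxc : x * c * x⁻¹ = c ∨ x * c * x⁻¹ = c⁻¹) : x * d * x⁻¹ ∈ Subgroup.zpowers d := by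
  have hxx : x⁻¹ = x := inv_eq_of_mul_eq_one_left hx
  have hcomm : (x * d * x⁻¹) * c = c * (x * d * x⁻¹) := by
    have h2 : d * (x⁻¹ * c * x) = (x⁻¹ * c * x) * d := by
      have h1 : x⁻¹ * c * x = x * c * x⁻¹ := by rw [hxx]
      rw [h1]
      rcases hxc with h | h
      · rw [h, hdc]
      · rw [h]
        have : Commute d c := hdc
        exact this.inv_right.eq
    calc (x * d * x⁻¹) * c = x * (d * (x⁻¹ * c * x)) * x⁻¹ := by group
      _ = x * ((x⁻¹ * c * x) * d) * x⁻¹ := by rw [h2]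
      _ = _ := by group
  have hcC : c ∈ Subgroup.centralizer ({c} : Set G) := mem_cent.mpr rfl
  have hdC : d ∈ Subgroup.centralizer ({c} : Set G) := mem_cent.mpr hdc
  have hyC : x * d * x⁻¹ ∈ Subgroup.centralizer ({c} : Set G) := mem_cent.mpr hcomm
  have h1 := order30 (G := Subgroup.centralizer ({c} : Set G)) p q hpq hq2 hpneq hcard ⟨c, hcC⟩
    (by rw [← Subgroup.orderOf_coe]; exact hc)
    (fun g => Subtype.ext (mem_cent.mp g.2)) ⟨d, hdC⟩ (by rw [← Subgroup.orderOf_coe]; exact hd)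
    ⟨x * d * x⁻¹, hyC⟩ (by
      apply Subtype.ext
      change (x * d * x⁻¹) ^ q = 1
      rw [conj_pow, ← hd, pow_orderOf_eq_one]
      group)
  obtain ⟨n, hn⟩ := h1
  refine ⟨n, ?_⟩
  have := congrArg Subtype.val hn
  exact this

theorem odd_cent [Finite G] (E : Emb H) (p q : ℕ) [hp : Fact p.Prime] [hq : Fact q.Prime]
    (hpq : 2 * p * q = 30) (hp2 : p ≠ 2) (hq2 : q ≠ 2) (hpneq : p ≠ q)
    (hcp : ∀ w : G, orderOf w = p → Nat.card (Subgroup.centralizer ({w} : Set G)) = 30)
    (hA : ∃ a : A5, orderOf a = p) (c : G) (hcH : c ∈ H) (hc : orderOf c = p) :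
    (∀ g : G, g * c = c * g → g ∈ H) ∧ (∀ j : G, j * c * j⁻¹ = c⁻¹ → j ∈ H) := by
  -- p ^ 2 does not divide the order of H
  have hcop : Nat.Coprime p (2 * q) := by
    rw [Nat.coprime_mul_iff_right]
    exact ⟨(Nat.coprime_primes hp.out Nat.prime_two).mpr hp2, (Nat.coprime_primes hp.out hq.out).mpr hpneq⟩
  have hsqG : ¬ p ^ 2 ∣ Nat.card G := by
    apply sq_not_dvd
    intro w hw h
    rw [hcp w hw, ← hpq, pow_two] at h
    have h1 : p * p ∣ p * (2 * q) := by
      have : 2 * p * q = p * (2 * q) := by ring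
      rwa [this] at h
    have h2 := Nat.dvd_of_mul_dvd_mul_left hp.out.pos h1
    have h3 := Nat.Coprime.eq_one_of_dvd hcop h2
    exact hp.out.one_lt.ne' h3
  have hsqH : ¬ p ^ 2 ∣ Nat.card H := fun h => hsqG (h.trans (Subgroup.card_subgroup_dvd_card H))
  -- an involution `i` commuting with `c`
  obtain ⟨t, htH, ht⟩ := E.ex
  obtain ⟨φ, hφ⟩ := exists_centData t ht (E.loc.cent t ht)
  obtain ⟨a, ha⟩ := hA
  have hφa : orderOf (φ a) = p := by rw [orderOf_injective φ hφ.inj, ha]
  have hφaH : φ a ∈ H := E.cen t htH ht _ (hφ.comm a).symm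
  obtain ⟨g, hg⟩ := commutes_of_sylow (G := H) p hsqH ⟨c, hcH⟩ ⟨φ a, hφaH⟩ ⟨t, htH⟩
    (by rw [← Subgroup.orderOf_coe]; exact hc) (by rw [← Subgroup.orderOf_coe]; exact hφa)
    (Subtype.ext (hφ.comm a))
  have hic : ((g : G) * t * (g : G)⁻¹) * c = c * ((g : G) * t * (g : G)⁻¹) := congrArg Subtype.val hg
  have hi : orderOf ((g : G) * t * (g : G)⁻¹) = 2 := by
    rw [ord2_iff] at ht ⊢
    refine ⟨?_, fun h => ht.2 (conj_eq_one_iff.mp h)⟩
    calc (g : G) * t * (g : G)⁻¹ * ((g : G) * t * (g : G)⁻¹) = (g : G) * (t * t) * (g : G)⁻¹ := by group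
      _ = 1 := by rw [ht.1]; group
  have hiH : (g : G) * t * (g : G)⁻¹ ∈ H := H.mul_mem (H.mul_mem g.2 htH) (H.inv_mem g.2)
  generalize (g : G) * t * (g : G)⁻¹ = i at hic hi hiH
  obtain ⟨ψ, hψ⟩ := exists_centData i hi (E.loc.cent i hi)
  obtain ⟨hi2, hi1⟩ := ord2_iff.mp hi
  have hii : i⁻¹ = i := inv_eq_of_mul_eq_one_left hi2
  -- `c` lies in the image of `ψ`
  obtain ⟨b, hb⟩ : ∃ b, c = ψ b := by
    obtain ⟨b, hb | hb⟩ := hψ.cover c hic.symm
    · exact ⟨b, hb⟩
    · have h1 : c ^ 2 = ψ (b ^ 2) := by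
        rw [hb, map_pow, pow_two, pow_two]
        calc i * ψ b * (i * ψ b) = i * (ψ b * i) * ψ b := by group
          _ = i * (i * ψ b) * ψ b := by rw [hψ.comm]
          _ = (i * i) * (ψ b * ψ b) := by group
          _ = _ := by rw [hi2, one_mul]
      obtain ⟨m, hm⟩ : ∃ m, p + 1 = 2 * m := by
        have := (hp.out.eq_two_or_odd').resolve_left hp2
        obtain ⟨m, hm⟩ := this
        exact ⟨m + 1, by omega⟩
      refine ⟨(b ^ 2) ^ m, ?_⟩
      rw [map_pow, ← h1, ← pow_mul, ← hm, pow_succ, ← hc, pow_orderOf_eq_one, one_mul]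
  -- an involution `s` inverting `c`, commuting with `i`
  obtain ⟨s', hs'2, hs'1, hs'b⟩ := A5_inverted b
  have hs2 : ψ s' * ψ s' = 1 := by rw [← map_mul, hs'2, map_one]
  have hs1 : ψ s' ≠ 1 := by
    intro h
    exact hs'1 (hψ.inj (by rw [h, map_one]))
  have hsc : ψ s' * c * (ψ s')⁻¹ = c⁻¹ := by
    rw [inv_eq_of_mul_eq_one_left hs2, hb, ← map_mul, ← map_mul, hs'b, map_inv]
  have his : i * ψ s' = ψ s' * i := hψ.comm s'
  have hsne : ψ s' ≠ i := hψ.ne s'
  have hsH : ψ s' ∈ H := E.cen i hiH hi _ his.symm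
  generalize ψ s' = s at hs2 hs1 hsc his hsne hsH
  have hs : orderOf s = 2 := ord2_iff.mpr ⟨hs2, hs1⟩
  have hss : s⁻¹ = s := inv_eq_of_mul_eq_one_left hs2
  -- an element of order q
  obtain ⟨d', hd'⟩ := exists_prime_orderOf_dvd_card' (G := Subgroup.centralizer ({c} : Set G)) q
    (by rw [hcp c hc, ← hpq]; exact Dvd.intro_left _ rfl)
  obtain ⟨d, hdc, hd⟩ : ∃ d : G, d * c = c * d ∧ orderOf d = q := by
    refine ⟨d', mem_cent.mp d'.2, ?_⟩
    rw [Subgroup.orderOf_coe]; exact hd'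
  have hic' : i * c * i⁻¹ = c := by rw [hic]; group
  have hid := inv_act q d i hd hi2
    (conj_mem_zpowers p q hpq hq2 hpneq c d i hc (hcp c hc) hd hdc hi2 (Or.inl hic'))
  have hsd := inv_act q d s hd hs2
    (conj_mem_zpowers p q hpq hq2 hpneq c d s hc (hcp c hc) hd hdc hs2 (Or.inr hsc))
  have hdH : d ∈ H := by
    rcases hid with h | h
    · apply E.cen i hiH hi
      have : i * d = d * i := by nth_rw 2 [← h]; group
      exact this.symm
    · rcases hsd with h' | h'
      · apply E.cen s hsH hs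
        have : s * d = d * s := by nth_rw 2 [← h']; group
        exact this.symm
      · have h1 : orderOf (i * s) = 2 := by
          rw [ord2_iff]
          constructor
          · calc i * s * (i * s) = i * (s * i) * s := by group
              _ = i * (i * s) * s := by rw [his]
              _ = (i * i) * (s * s) := by group
              _ = 1 := by rw [hi2, hs2, one_mul]
          · intro h2
            apply hsne
            calc s = i * i * s := by rw [hi2, one_mul]
              _ = i * (i * s) := by group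
              _ = i := by rw [h2, mul_one]
        apply E.cen (i * s) (H.mul_mem hiH hsH) h1
        have h2 : (i * s) * d * (i * s)⁻¹ = d := by
          calc (i * s) * d * (i * s)⁻¹ = i * (s * d * s⁻¹) * i⁻¹ := by group
            _ = i * d⁻¹ * i⁻¹ := by rw [h']
            _ = (i * d * i⁻¹)⁻¹ := by group
            _ = d := by rw [h, inv_inv]
        have : (i * s) * d = d * (i * s) := by nth_rw 2 [← h2]; group
        exact this.symm
  -- the centraliser of `c` is contained in `H`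
  have hle : Subgroup.centralizer ({c} : Set G) ≤ H := by
    have h2 : 2 ∣ Nat.card (H ⊓ Subgroup.centralizer ({c} : Set G) : Subgroup G) := by
      rw [← hi]
      exact orderOf_dvd_card_of_mem ⟨hiH, mem_cent.mpr hic⟩
    have h3 : p ∣ Nat.card (H ⊓ Subgroup.centralizer ({c} : Set G) : Subgroup G) := by
      nth_rw 1 [← hc]
      exact orderOf_dvd_card_of_mem ⟨hcH, mem_cent.mpr rfl⟩
    have h4 : q ∣ Nat.card (H ⊓ Subgroup.centralizer ({c} : Set G) : Subgroup G) := by
      nth_rw 1 [← hd]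
      exact orderOf_dvd_card_of_mem ⟨hdH, mem_cent.mpr hdc⟩
    have h5 : 2 * p ∣ Nat.card (H ⊓ Subgroup.centralizer ({c} : Set G) : Subgroup G) :=
      ((Nat.coprime_primes Nat.prime_two hp.out).mpr hp2.symm).mul_dvd_of_dvd_of_dvd h2 h3
    have h6 : 2 * p * q ∣ Nat.card (H ⊓ Subgroup.centralizer ({c} : Set G) : Subgroup G) := by
      refine Nat.Coprime.mul_dvd_of_dvd_of_dvd ?_ h5 h4
      rw [Nat.coprime_mul_iff_left]
      exact ⟨(Nat.coprime_primes Nat.prime_two hq.out).mpr hq2.symm,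
        (Nat.coprime_primes hp.out hq.out).mpr hpneq⟩
    rw [hpq, ← hcp c hc] at h6
    have h7 := Subgroup.eq_of_le_of_card_ge (H := H ⊓ Subgroup.centralizer ({c} : Set G)) inf_le_right
      (Nat.le_of_dvd Nat.card_pos h6)
    rw [← h7]
    exact inf_le_left
  have hcen : ∀ g : G, g * c = c * g → g ∈ H := fun g hg => hle (mem_cent.mpr hg)
  refine ⟨hcen, ?_⟩
  intro j hj
  have h1 : s⁻¹ * j ∈ H := by
    apply hcen
    have h2 : j * c = c⁻¹ * j := by rw [← hj]; group
    have h3 : s⁻¹ * c⁻¹ = c * s⁻¹ := by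
      rw [← hsc]; group
    calc s⁻¹ * j * c = s⁻¹ * (j * c) := by group
      _ = (s⁻¹ * c⁻¹) * j := by rw [h2]; group
      _ = c * (s⁻¹ * j) := by rw [h3]; group
  have h4 := H.mul_mem hsH h1
  rwa [← mul_assoc, mul_inv_cancel, one_mul] at h4

/-- the centraliser of an involution has order 120. -/
theorem card_cent2 [Finite G] (loc : Local G) (x : G) (hx : orderOf x = 2) :
    Nat.card (Subgroup.centralizer ({x} : Set G)) = 120 := by
  obtain ⟨e⟩ := loc.cent x hx
  rw [Nat.card_congr e.toEquiv, Nat.card_prod, nat_card_alternatingGroup]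
  simp
  decide

/-- facts on elements of order 3 and 5 -/
theorem odd_facts [Finite G] (E : Emb H) (c : G) (hcH : c ∈ H) (hc : orderOf c = 3 ∨ orderOf c = 5) :
    (∀ g : G, g * c = c * g → g ∈ H) ∧ (∀ j : G, j * c * j⁻¹ = c⁻¹ → j ∈ H) := by
  haveI : Fact (Nat.Prime 3) := ⟨Nat.prime_three⟩
  haveI : Fact (Nat.Prime 5) := ⟨Nat.prime_five⟩
  rcases hc with h | h
  · exact odd_cent E 3 5 (by norm_num) (by norm_num) (by norm_num) (by norm_num) E.loc.cent3
      A5_exists_three c hcH h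
  · exact odd_cent E 5 3 (by norm_num) (by norm_num) (by norm_num) (by norm_num) E.loc.cent5
      A5_exists_five c hcH h

end Cfsg.Agent.SporRec.J1.EqTopC
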