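import Mathlib
import Cfsg.Agent.SporRec.J1.EqTopC

/-!
Closing step of the recognition of `J1`, part D: counting involutions.
-/

set_option autoImplicit false

namespace Cfsg.Agent.SporRec.J1.EqTopD

open Cfsg.Agent.SporRec.J1.Defs Cfsg.Agent.SporRec.J1.CentFacts Cfsg.Agent.SporRec.J1.EqTopA
  Cfsg.Agent.SporRec.J1.EqTopB Cfsg.Agent.SporRec.J1.EqTopC

variable {G : Type*} [Group G] {H : Subgroup G}

/-- orbit-stabiliser for the conjugation action of a subgroup. -/
theorem class_card [Finite G] (N : Subgroup G) (t : G) :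
    Nat.card {x : G // ∃ n ∈ N, n * t * n⁻¹ = x} *
      Nat.card (N ⊓ Subgroup.centralizer ({t} : Set G) : Subgroup G) = Nat.card N := by
  letI : MulAction N G := MulAction.compHom G ((MulAut.conj : G →* MulAut G).comp N.subtype)
  have hsm : ∀ (n : N) (x : G), n • x = (n : G) * x * (n : G)⁻¹ := fun n x => rfl
  have h1 := Nat.card_congr (MulAction.orbitProdStabilizerEquivGroup N t)
  rw [Nat.card_prod] at h1
  rw [← h1]
  congr 1
  · apply Nat.card_congr
    refine Equiv.subtypeEquivRight ?_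
    intro x
    constructor
    · rintro ⟨n, hn, rfl⟩
      exact ⟨⟨n, hn⟩, rfl⟩
    · rintro ⟨n, rfl⟩
      exact ⟨n, n.2, rfl⟩
  · symm
    refine Nat.card_congr ⟨fun n => ⟨n.1.1, n.1.2, ?_⟩, fun g => ⟨⟨g.1, g.2.1⟩, ?_⟩, fun n => rfl, fun g => rfl⟩
    · have h2 : (n.1 : G) * t * (n.1 : G)⁻¹ = t := n.2
      exact mem_cent.mpr (mul_inv_eq_iff_eq_mul.mp h2)
    · change (g : G) * t * (g : G)⁻¹ = t
      rw [mul_inv_eq_iff_eq_mul]
      exact mem_cent.mp g.2.2

theorem card_G [Finite G] (loc : Local G) (t : G) (ht : orderOf t = 2) :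
    Nat.card {x : G // orderOf x = 2} * 120 = Nat.card G := by
  have h := class_card (⊤ : Subgroup G) t
  rw [top_inf_eq, card_cent2 loc t ht, Subgroup.card_top] at h
  rw [← h]
  congr 1
  apply Nat.card_congr
  refine Equiv.subtypeEquivRight ?_
  intro x
  constructor
  · intro hx
    obtain ⟨g, hg⟩ := loc.conj t x ht hx
    exact ⟨g, trivial, hg⟩
  · rintro ⟨g, -, rfl⟩
    rw [ord2_iff] at ht ⊢
    refine ⟨?_, fun h => ht.2 (conj_eq_one_iff.mp h)⟩
    calc g * t * g⁻¹ * (g * t * g⁻¹) = g * (t * t) * g⁻¹ := by group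
      _ = 1 := by rw [ht.1]; group

theorem card_H [Finite G] (E : Emb H) :
    Nat.card {x : G // x ∈ H ∧ orderOf x = 2} * 120 = Nat.card H := by
  obtain ⟨t, htH, ht⟩ := E.ex
  have h := class_card H t
  have h1 : H ⊓ Subgroup.centralizer ({t} : Set G) = Subgroup.centralizer ({t} : Set G) :=
    inf_eq_right.mpr (fun g hg => E.cen t htH ht g (mem_cent.mp hg))
  rw [h1, card_cent2 E.loc t ht] at h
  rw [← h]
  congr 1
  apply Nat.card_congr
  refine Equiv.subtypeEquivRight ?_
  intro x
  constructor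
  · rintro ⟨hxH, hx⟩
    exact inv_conj E t x ht hx htH hxH
  · rintro ⟨g, hg, rfl⟩
    refine ⟨H.mul_mem (H.mul_mem hg htH) (H.inv_mem hg), ?_⟩
    rw [ord2_iff] at ht ⊢
    refine ⟨?_, fun h => ht.2 (conj_eq_one_iff.mp h)⟩
    calc g * t * g⁻¹ * (g * t * g⁻¹) = g * (t * t) * g⁻¹ := by group
      _ = 1 := by rw [ht.1]; group

theorem card_pos [Finite G] (E : Emb H) : 15 ≤ Nat.card {x : G // x ∈ H ∧ orderOf x = 2} := by
  classical
  obtain ⟨t, htH, ht⟩ := E.ex
  obtain ⟨φ, hφ⟩ := exists_centData t ht (E.loc.cent t ht)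
  have h15 : Nat.card {a : A5 // a * a = 1 ∧ a ≠ 1} = 15 := by
    rw [Nat.card_eq_fintype_card]
    decide +kernel
  rw [← h15]
  refine Nat.card_le_card_of_injective
    (fun a => ⟨φ a.1, E.cen t htH ht _ (hφ.comm a.1).symm, ?_⟩) ?_
  · rw [ord2_iff]
    refine ⟨by rw [← map_mul, a.2.1, map_one], fun h => a.2.2 (hφ.inj (by rw [h, map_one]))⟩
  · intro a b hab
    exact Subtype.ext (hφ.inj (congrArg Subtype.val hab))

/-- pigeonhole: some coset `j H ≠ H` contains at least as many involutions as `H`. -/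
theorem exists_j [Finite G] (E : Emb H) (hne : H ≠ ⊤) :
    ∃ j, j ∉ H ∧ orderOf j = 2 ∧ Nat.card {x : G // x ∈ H ∧ orderOf x = 2} ≤
      Nat.card {h : G // h ∈ H ∧ orderOf (j * h) = 2} := by
  classical
  have : Fintype G := Fintype.ofFinite G
  have : Fintype (G ⧸ H) := Fintype.ofFinite (G ⧸ H)
  obtain ⟨t, htH, ht⟩ := E.ex
  have hG := card_G E.loc t ht
  have hH := card_H E
  have hk := card_pos E
  set k := Nat.card {x : G // x ∈ H ∧ orderOf x = 2} with hkdef
  set n := Nat.card {x : G // orderOf x = 2} with hndef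
  have hidx : H.index * Nat.card H = Nat.card G := H.index_mul_card
  have hik : H.index * k = n := by
    have h1 : (H.index * k) * 120 = n * 120 := by rw [hG, ← hidx, ← hH, mul_assoc]
    exact Nat.eq_of_mul_eq_mul_right (by norm_num) h1
  have hidx1 : H.index ≠ 1 := fun h => hne (Subgroup.index_eq_one.mp h)
  have hidx0 : H.index ≠ 0 := H.index_ne_zero_of_finite
  let s : Finset G := (Finset.univ.filter (fun x : G => orderOf x = 2)).filter (fun x => x ∉ H)
  let T : Finset (G ⧸ H) := Finset.univ.erase ((1 : G) : G ⧸ H)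
  have hT : T.card = H.index - 1 := by
    rw [Finset.card_erase_of_mem (Finset.mem_univ _), Finset.card_univ, ← Nat.card_eq_fintype_card]
    rfl
  have hs : s.card + k = n := by
    have h1 : n = (Finset.univ.filter (fun x : G => orderOf x = 2)).card := by
      rw [hndef, Nat.card_eq_fintype_card, Fintype.card_subtype]
    have h2 : k = ((Finset.univ.filter (fun x : G => orderOf x = 2)).filter (fun x => x ∈ H)).card := by
      rw [hkdef, Nat.card_eq_fintype_card, Fintype.card_subtype, Finset.filter_filter]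
      congr 1
      ext x
      simp [and_comm]
    have h3 := Finset.card_filter_add_card_filter_not (s := Finset.univ.filter (fun x : G => orderOf x = 2))
      (fun x => x ∈ H)
    rw [h1, h2, ← h3, add_comm]
  have hTn : T.Nonempty := by
    rw [← Finset.card_pos, hT]
    omega
  have hle : T.card * k ≤ s.card := by
    obtain ⟨m, hm⟩ : ∃ m, H.index = m + 1 := ⟨H.index - 1, by omega⟩
    have h1 : T.card = m := by omega
    rw [h1]
    rw [hm, add_mul, one_mul] at hik
    omega
  obtain ⟨y, hyT, hy⟩ := Finset.exists_le_card_fiber_of_mul_le_card_of_maps_to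
    (s := s) (t := T) (f := fun x : G => (x : G ⧸ H)) (n := k) (by
      intro a ha
      rw [Finset.mem_filter] at ha
      rw [Finset.mem_erase]
      refine ⟨?_, Finset.mem_univ _⟩
      intro h
      apply ha.2
      have h1 := QuotientGroup.eq.mp h
      rw [mul_one] at h1
      have h2 := H.inv_mem h1
      rwa [inv_inv] at h2) hTn hle
  obtain ⟨j, hj⟩ : (s.filter (fun x : G => (x : G ⧸ H) = y)).Nonempty := by
    rw [← Finset.card_pos]
    omega
  rw [Finset.mem_filter, Finset.mem_filter, Finset.mem_filter] at hj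
  refine ⟨j, hj.1.2, hj.1.1.2, hy.trans ?_⟩
  rw [← Nat.card_eq_finsetCard]
  refine Nat.card_le_card_of_injective (fun x => ⟨j⁻¹ * x.1, ?_, ?_⟩) ?_
  · have hx := x.2
    rw [Finset.mem_filter] at hx
    exact QuotientGroup.eq.mp (hj.2.trans hx.2.symm)
  · have hx := x.2
    rw [Finset.mem_filter, Finset.mem_filter, Finset.mem_filter] at hx
    rw [mul_inv_cancel_left]
    exact hx.1.1.2
  · intro a b hab
    have h1 : j⁻¹ * (a : G) = j⁻¹ * (b : G) := congrArg Subtype.val hab
    exact Subtype.ext (mul_left_cancel h1)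

end Cfsg.Agent.SporRec.J1.EqTopD
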