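import Mathlib
import Cfsg.Agent.SporRec.J1.EqTopD
import Cfsg.Agent.Solvable.FrobeniusKernel

/-!
Closing step of the recognition of `J1`, part E: the group inverted by an outer involution, and the final
contradiction.
-/

set_option autoImplicit false

namespace Cfsg.Agent.SporRec.J1.EqTopE

open Cfsg.Agent.SporRec.J1.Defs Cfsg.Agent.SporRec.J1.CentFacts Cfsg.Agent.SporRec.J1.EqTopA
  Cfsg.Agent.SporRec.J1.EqTopB Cfsg.Agent.SporRec.J1.EqTopC Cfsg.Agent.SporRec.J1.EqTopD

variable {G : Type*} [Group G] {H : Subgroup G}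

/-- a fixed point free involution inverts. -/
theorem fpf_inverts [Finite G] (K : Subgroup G) (j : G) (hj : j * j = 1) (hn : ∀ x ∈ K, j * x * j⁻¹ ∈ K)
    (hf : ∀ x ∈ K, x * j = j * x → x = 1) :
    (∀ x ∈ K, j * x * j⁻¹ = x⁻¹) ∧ (∀ x ∈ K, ∀ y ∈ K, x * y = y * x) := by
  have hjj : j⁻¹ = j := inv_eq_of_mul_eq_one_left hj
  have h1 : ∀ x ∈ K, j * x * j⁻¹ = x⁻¹ := by
    intro x hx
    let f : K → K := fun y => ⟨(y : G)⁻¹ * (j * y * j⁻¹), K.mul_mem (K.inv_mem y.2) (hn _ y.2)⟩
    have hinj : Function.Injective f := by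
      intro y z hyz
      have h2 : (y : G)⁻¹ * (j * y * j⁻¹) = (z : G)⁻¹ * (j * z * j⁻¹) := congrArg Subtype.val hyz
      have h3 : (z : G) * (y : G)⁻¹ = 1 := by
        apply hf _ (K.mul_mem z.2 (K.inv_mem y.2))
        have h4 : (z : G) * (y : G)⁻¹ = j * ((z : G) * (y : G)⁻¹) * j⁻¹ := by
          calc (z : G) * (y : G)⁻¹ = z * ((y : G)⁻¹ * (j * y * j⁻¹)) * (j * y * j⁻¹)⁻¹ := by group
            _ = z * ((z : G)⁻¹ * (j * z * j⁻¹)) * (j * y * j⁻¹)⁻¹ := by rw [h2]
            _ = _ := by group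
        nth_rw 1 [h4]
        group
      exact Subtype.ext (mul_inv_eq_one.mp h3).symm
    obtain ⟨y, hy⟩ := Finite.surjective_of_injective hinj ⟨x, hx⟩
    have h2 : (y : G)⁻¹ * (j * y * j⁻¹) = x := congrArg Subtype.val hy
    rw [← h2]
    calc j * ((y : G)⁻¹ * (j * y * j⁻¹)) * j⁻¹ = j * (y : G)⁻¹ * (j * y * (j⁻¹ * j⁻¹)) := by group
      _ = j * (y : G)⁻¹ * (j * y) := by rw [hjj, hj, mul_one]
      _ = j * (y : G)⁻¹ * (j⁻¹ * y) := by rw [hjj]
      _ = _ := by group
  refine ⟨h1, ?_⟩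
  intro x hx y hy
  have h2 := h1 _ (K.mul_mem hx hy)
  have h3 : j * (x * y) * j⁻¹ = (j * x * j⁻¹) * (j * y * j⁻¹) := by group
  rw [h3, h1 x hx, h1 y hy, ← mul_inv_rev] at h2
  exact (inv_injective h2).symm

theorem prime_dvd_120 {p : ℕ} (hp : p.Prime) (h : p ∣ 120) : p = 2 ∨ p = 3 ∨ p = 5 := by
  have h1 : (120 : ℕ) = 2 ^ 3 * (3 * 5) := by norm_num
  rw [h1] at h
  rcases hp.dvd_mul.mp h with h | h
  · exact Or.inl ((Nat.prime_dvd_prime_iff_eq hp Nat.prime_two).mp (hp.dvd_of_dvd_pow h))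
  · rcases hp.dvd_mul.mp h with h | h
    · exact Or.inr (Or.inl ((Nat.prime_dvd_prime_iff_eq hp Nat.prime_three).mp h))
    · exact Or.inr (Or.inr ((Nat.prime_dvd_prime_iff_eq hp Nat.prime_five).mp h))

/-- elements of prime order dividing 120. -/
theorem cen_prime [Finite G] (E : Emb H) (y : G) (hyH : y ∈ H) (p : ℕ) (hp : p.Prime) (h : p ∣ 120)
    (hy : orderOf y = p) : (∀ g : G, g * y = y * g → g ∈ H) ∧ (∀ j : G, j * y * j⁻¹ = y⁻¹ → j ∈ H) := by
  rcases prime_dvd_120 hp h with rfl | h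
  · refine ⟨E.cen y hyH hy, fun j hj => E.cen y hyH hy j ?_⟩
    have h1 : y⁻¹ = y := inv_eq_of_mul_eq_one_left (ord2_iff.mp hy).1
    rw [h1] at hj
    exact mul_inv_eq_iff_eq_mul.mp hj
  · exact odd_facts E y hyH (by rcases h with rfl | rfl; exacts [Or.inl hy, Or.inr hy])

/-- no nontrivial element of `H` commutes with an involution outside `H`. -/
theorem no_comm [Finite G] (E : Emb H) (j : G) (hj : orderOf j = 2) (hjH : j ∉ H) (x : G) (hxH : x ∈ H)
    (hxj : x * j = j * x) : x = 1 := by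
  by_contra hx
  have h1 : orderOf x ≠ 1 := fun h => hx (orderOf_eq_one_iff.mp h)
  obtain ⟨p, hp, hpd⟩ := Nat.exists_prime_and_dvd h1
  have h0 : 0 < orderOf x := orderOf_pos x
  have hy : orderOf (x ^ (orderOf x / p)) = p := by
    rw [orderOf_pow_orderOf_div h0.ne' hpd]
  have hyj : x ^ (orderOf x / p) * j = j * x ^ (orderOf x / p) := by
    have : Commute x j := hxj
    exact (this.pow_left _).eq
  have hyH : x ^ (orderOf x / p) ∈ H := H.pow_mem hxH _
  have hdv : p ∣ 120 := by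
    rw [← card_cent2 E.loc j hj, ← hy]
    exact orderOf_dvd_card_of_mem (mem_cent.mpr hyj)
  exact hjH ((cen_prime E _ hyH p hp hdv hy).1 j hyj.symm)

/-- properties of the group `K = H ∩ H ^ j`. -/
structure KFacts (H K : Subgroup G) : Prop where
  le : K ≤ H
  cop : (Nat.card K).Coprime 120
  card : Nat.card K * 120 = Nat.card H
  comm : ∀ x ∈ K, ∀ y ∈ K, x * y = y * x
  cen : ∀ x ∈ K, x ≠ 1 → ∀ g ∈ H, g * x = x * g → g ∈ K

theorem exists_K [Finite G] (E : Emb H) (hne : H ≠ ⊤) : ∃ K : Subgroup G, KFacts H K := by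
  obtain ⟨j, hjH, hj, hjcard⟩ := exists_j E hne
  obtain ⟨hj2, hj1⟩ := ord2_iff.mp hj
  have hjj : j⁻¹ = j := inv_eq_of_mul_eq_one_left hj2
  let K : Subgroup G := H ⊓ H.comap (MulAut.conj j).toMonoidHom
  have hmem : ∀ x, x ∈ K ↔ x ∈ H ∧ j * x * j⁻¹ ∈ H := fun x => Iff.rfl
  have hn : ∀ x ∈ K, j * x * j⁻¹ ∈ K := by
    intro x hx
    rw [hmem] at hx ⊢
    refine ⟨hx.2, ?_⟩
    have h1 : j * (j * x * j⁻¹) * j⁻¹ = (j * j) * x * (j * j)⁻¹ := by group
    rw [h1, hj2, one_mul, inv_one, mul_one]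
    exact hx.1
  have hle : K ≤ H := inf_le_left
  obtain ⟨hinv, hcomm⟩ := fpf_inverts K j hj2 hn (fun x hx h => no_comm E j hj hjH x (hle hx) h)
  have hcop : (Nat.card K).Coprime 120 := by
    by_contra h
    obtain ⟨p, hp, hp1, hp2⟩ := Nat.Prime.not_coprime_iff_dvd.mp h
    have : Fact p.Prime := ⟨hp⟩
    obtain ⟨y, hy⟩ := exists_prime_orderOf_dvd_card' p hp1
    rw [← Subgroup.orderOf_coe] at hy
    exact hjH ((cen_prime E y (hle y.2) p hp hp2 hy).2 j (hinv y y.2))
  have hcard : Nat.card K * 120 = Nat.card H := by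
    have h1 := card_H E
    have h2 := card_pos E
    set k := Nat.card {x : G // x ∈ H ∧ orderOf x = 2}
    have h3 : Nat.card K ∣ k := by
      have h4 : Nat.card K ∣ k * 120 := by rw [h1]; exact Subgroup.card_dvd_of_le hle
      exact hcop.dvd_of_dvd_mul_right h4
    have h4 : k ≤ Nat.card K := by
      refine hjcard.trans (Nat.card_le_card_of_injective (fun h => ⟨h.1, ?_⟩) ?_)
      · rw [hmem]
        refine ⟨h.2.1, ?_⟩
        have h5 := (ord2_iff.mp h.2.2).1
        have h6 : j * h.1 * j⁻¹ = (h.1)⁻¹ := by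
          rw [hjj]
          rw [eq_inv_iff_mul_eq_one, ← h5]
          group
        rw [h6]
        exact H.inv_mem h.2.1
      · intro a b hab
        exact Subtype.ext (congrArg (fun x : K => (x : G)) hab)
    have h5 : Nat.card K = k := le_antisymm (Nat.le_of_dvd (by omega) h3) h4
    rw [h5, h1]
  refine ⟨K, hle, hcop, hcard, hcomm, ?_⟩
  intro x hx hx1 g hg hgx
  -- centraliser of x in H
  let M : Subgroup G := H ⊓ Subgroup.centralizer ({x} : Set G)
  have hKM : K ≤ M := fun y hy => ⟨hle hy, mem_cent.mpr (hcomm y hy x hx)⟩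
  have hMcop : (Nat.card M).Coprime 120 := by
    by_contra h
    obtain ⟨p, hp, hp1, hp2⟩ := Nat.Prime.not_coprime_iff_dvd.mp h
    have : Fact p.Prime := ⟨hp⟩
    obtain ⟨y, hy⟩ := exists_prime_orderOf_dvd_card' p hp1
    rw [← Subgroup.orderOf_coe] at hy
    have hyx : x * (y : G) = y * x := (mem_cent.mp y.2.2).symm
    have hxy : orderOf x ∣ 120 := by
      have h7 : orderOf x ∣ Nat.card (Subgroup.centralizer ({(y : G)} : Set G)) :=
        orderOf_dvd_card_of_mem (mem_cent.mpr hyx)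
      rcases prime_dvd_120 hp hp2 with rfl | rfl | rfl
      · rwa [card_cent2 E.loc _ hy] at h7
      · rw [E.loc.cent3 _ hy] at h7
        exact h7.trans (by norm_num)
      · rw [E.loc.cent5 _ hy] at h7
        exact h7.trans (by norm_num)
    have h8 : orderOf x ∣ Nat.card K := orderOf_dvd_card_of_mem hx
    have h9 : orderOf x = 1 := Nat.dvd_one.mp (hcop ▸ Nat.dvd_gcd h8 hxy)
    exact hx1 (orderOf_eq_one_iff.mp h9)
  have h3 : Nat.card M ∣ Nat.card K := by
    have h4 : Nat.card M ∣ Nat.card K * 120 := by rw [hcard]; exact Subgroup.card_dvd_of_le inf_le_left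
    exact hMcop.dvd_of_dvd_mul_right h4
  have h4 := Subgroup.eq_of_le_of_card_ge hKM (Nat.le_of_dvd Nat.card_pos h3)
  rw [h4]
  exact ⟨hg, mem_cent.mpr hgx⟩

/-- 7 divides the order of `H`. -/
theorem seven_dvd [Finite G] (E : Emb H) : 7 ∣ Nat.card H := by
  have h120 : 120 ∣ Nat.card H := ⟨_, by rw [← card_H E, mul_comm]⟩
  have h16 : ¬ 16 ∣ Nat.card H := fun h => E.loc.two (h.trans (Subgroup.card_subgroup_dvd_card H))
  obtain ⟨P⟩ : Nonempty (Sylow 2 H) := inferInstance
  have hP : Nat.card P = 8 := by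
    rw [P.card_eq_multiplicity]
    have h0 : Nat.card H ≠ 0 := Nat.card_pos.ne'
    have h2 : 3 ≤ (Nat.card H).factorization 2 :=
      (Nat.prime_two.pow_dvd_iff_le_factorization h0).mp (dvd_trans (by norm_num) h120)
    have h3 : ¬ 4 ≤ (Nat.card H).factorization 2 := fun h =>
      h16 (by simpa using (Nat.prime_two.pow_dvd_iff_le_factorization h0).mpr h)
    have : (Nat.card H).factorization 2 = 3 := by omega
    rw [this]; norm_num
  -- a central involution
  have hPp : IsPGroup 2 P := P.2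
  have hnt : Nontrivial P := by
    rw [← Finite.one_lt_card_iff_nontrivial, hP]; norm_num
  have hc := hPp.center_nontrivial
  have hpc : IsPGroup 2 (Subgroup.center P) := hPp.to_subgroup _
  obtain ⟨n, hn⟩ := hpc.exists_card_eq
  have hdv : 2 ∣ Nat.card (Subgroup.center P) := by
    rw [hn]
    apply dvd_pow_self
    rintro rfl
    rw [pow_zero] at hn
    have := Finite.one_lt_card_iff_nontrivial.mpr hc
    omega
  obtain ⟨w, hw⟩ := exists_prime_orderOf_dvd_card' (G := Subgroup.center P) 2 hdv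
  obtain ⟨u, huP, hu, hucomm⟩ : ∃ u : H, u ∈ P ∧ orderOf u = 2 ∧ ∀ g ∈ P, g * u = u * g := by
    refine ⟨(w : P), (w : P).2, ?_, ?_⟩
    · rw [Subgroup.orderOf_coe, Subgroup.orderOf_coe]; exact hw
    · intro g hg
      have := Subgroup.mem_center_iff.mp w.2 ⟨g, hg⟩
      exact congrArg Subtype.val this
  have hu' : orderOf (u : G) = 2 := by rw [Subgroup.orderOf_coe]; exact hu
  obtain ⟨φ, hφ⟩ := exists_centData (u : G) hu' (E.loc.cent u hu')
  have hu2 : (u : G) * u = 1 := (ord2_iff.mp hu').1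
  have hsq : ∀ g ∈ P, g * g = 1 := by
    intro g hg
    have hg8 : g ^ 8 = 1 := by
      have := pow_card_eq_one' (x := (⟨g, hg⟩ : (P : Subgroup H)))
      rw [hP] at this
      exact congrArg Subtype.val this
    have hg8' : (g : G) ^ 8 = 1 := congrArg Subtype.val hg8
    have hgu : (g : G) * u = u * g := congrArg Subtype.val (hucomm g hg)
    obtain ⟨a, ha⟩ := hφ.cover _ hgu
    have h2 : (g : G) * g = φ (a * a) := by
      rcases ha with h | h
      · rw [h, map_mul]
      · rw [h, map_mul]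
        calc (u : G) * φ a * (u * φ a) = u * (φ a * u) * φ a := by group
          _ = u * (u * φ a) * φ a := by rw [hφ.comm]
          _ = (u * u) * (φ a * φ a) := by group
          _ = _ := by rw [hu2, one_mul]
    have h8 : a ^ 8 = 1 := by
      apply hφ.inj
      rw [map_one, ← hg8']
      have h9 : a ^ 8 = (a * a) ^ 4 := by rw [← pow_two, ← pow_mul]
      rw [h9, map_pow, ← h2, ← pow_two, ← pow_mul]
    have ha2 : a * a = 1 := by
      rcases A5_pow a with h | h | h
      · rw [← pow_two, h]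
      · have h9 : a = 1 := by
          calc a = (a ^ 3) ^ 3 * (a ^ 8)⁻¹ := by group
            _ = 1 := by rw [h, h8]; group
        rw [h9, one_mul]
      · have h9 : a = 1 := by
          calc a = (a ^ 5) ^ 5 * ((a ^ 8) ^ 3)⁻¹ := by group
            _ = 1 := by rw [h, h8]; group
        rw [h9, one_mul]
    apply Subtype.ext
    change (g : G) * g = 1
    rw [h2, ha2, map_one]
  have hcommP : IsMulCommutative (P : Subgroup H) := by
    refine ⟨⟨?_⟩⟩
    intro a b
    have h1 : ∀ x : (P : Subgroup H), x * x = 1 := fun x => Subtype.ext (hsq x x.2)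
    have h2 : ∀ x : (P : Subgroup H), x⁻¹ = x := fun x => inv_eq_of_mul_eq_one_left (h1 x)
    calc a * b = (a * b)⁻¹ := (h2 _).symm
      _ = b⁻¹ * a⁻¹ := mul_inv_rev _ _
      _ = b * a := by rw [h2, h2]
  -- orbit of `u` under the normaliser
  have hcl := class_card (Subgroup.normalizer ((P : Subgroup H) : Set H)) u
  have h7 : Nat.card {x : H // ∃ n ∈ Subgroup.normalizer ((P : Subgroup H) : Set H), n * u * n⁻¹ = x} = 7 := by
    have h1 : Nat.card {x : H // ∃ n ∈ Subgroup.normalizer ((P : Subgroup H) : Set H), n * u * n⁻¹ = x} =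
        Nat.card {x : H // x ∈ (P : Subgroup H) ∧ x ≠ 1} := by
      apply Nat.card_congr
      refine Equiv.subtypeEquivRight ?_
      intro x
      constructor
      · rintro ⟨n, hn, rfl⟩
        refine ⟨(Subgroup.mem_normalizer_iff.mp hn u).mp huP, fun h => (ord2_iff.mp hu).2 (conj_eq_one_iff.mp h)⟩
      · rintro ⟨hxP, hx1⟩
        have hx : orderOf (x : G) = 2 := by
          rw [Subgroup.orderOf_coe, ord2_iff]
          exact ⟨hsq x hxP, hx1⟩
        obtain ⟨g, hgH, hg⟩ := inv_conj E (u : G) x hu' hx u.2 x.2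
        have hgx : ((⟨g, hgH⟩ : H)⁻¹)⁻¹ * u * (⟨g, hgH⟩ : H)⁻¹ = x := by
          apply Subtype.ext
          rw [inv_inv]
          exact hg
        obtain ⟨n, hn, hnx⟩ := P.conj_eq_normalizer_conj_of_mem u (⟨g, hgH⟩ : H)⁻¹ huP
          (by rw [hgx]; exact hxP)
        rw [hgx] at hnx
        exact ⟨n⁻¹, Subgroup.inv_mem _ hn, by rw [hnx, inv_inv]⟩
    rw [h1, Cfsg.Agent.Solvable.FrobeniusKernel.card_ne_one]
    change Nat.card P - 1 = 7
    rw [hP]
  rw [h7] at hcl
  exact (Dvd.intro _ hcl).trans (Subgroup.card_subgroup_dvd_card _)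

end Cfsg.Agent.SporRec.J1.EqTopE
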