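import Mathlib
import Cfsg.Agent.SporRec.J1.EqTopE

/-!
Closing step of the recognition of `J1`: in a finite group with the local structure of `J1`, a subgroup of even
order containing the centralisers of its involutions is the whole group.
-/

set_option autoImplicit false

namespace Cfsg.Agent.SporRec.J1.EqTop

open Cfsg.Agent.SporRec.J1.Defs Cfsg.Agent.SporRec.J1.CentFacts Cfsg.Agent.SporRec.J1.EqTopA
  Cfsg.Agent.SporRec.J1.EqTopB Cfsg.Agent.SporRec.J1.EqTopC Cfsg.Agent.SporRec.J1.EqTopD
  Cfsg.Agent.SporRec.J1.EqTopE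

/-- a normal-Hall type statement -/
theorem mem_of_normalizes {N : Type*} [Group N] [Finite N] (K : Subgroup N) (hidx : K.index = 120)
    (x : N) (hx : x ∈ Subgroup.normalizer (K : Set N)) (hcop : (orderOf x).Coprime 120) : x ∈ K := by
  set M := Subgroup.normalizer (K : Set N) with hM
  have hKM : K ≤ M := Subgroup.le_normalizer
  have hn : (K.subgroupOf M).Normal := Subgroup.normal_in_normalizer
  have h1 : (K.subgroupOf M).index ∣ 120 := by
    rw [← hidx]
    exact Subgroup.relIndex_dvd_index_of_le hKM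
  have h2 : (⟨x, hx⟩ : M) ^ (K.subgroupOf M).index ∈ K.subgroupOf M := Subgroup.pow_index_mem _ _
  obtain ⟨m, hm⟩ := h1
  have h3 : (⟨x, hx⟩ : M) ^ 120 ∈ K.subgroupOf M := by
    rw [hm, pow_mul]
    exact Subgroup.pow_mem _ h2 m
  have h4 : x ^ 120 ∈ K := h3
  have h5 : x ∈ Subgroup.zpowers (x ^ 120) := by
    rw [mem_zpowers_pow_iff]
    exact hcop.symm
  exact (Subgroup.zpowers_le.mpr h4) h5

/-- the final contradiction, inside the group `H` (called `N` here). -/
theorem final {N : Type*} [Group N] [Finite N] (K : Subgroup N) (hcop : (Nat.card K).Coprime 120)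
    (hidx : K.index = 120) (hcomm : ∀ x ∈ K, ∀ y ∈ K, x * y = y * x)
    (hcen : ∀ x ∈ K, x ≠ 1 → ∀ g, g * x = x * g → g ∈ K) (hk : 15 ≤ Nat.card K) (h7 : 7 ∣ Nat.card K)
    (t s : N) (ht : orderOf t = 2) (hs : orderOf s = 2) (hne : t ≠ s) (hts : t * s = s * t)
    (hct : Nat.card (Subgroup.centralizer ({t} : Set N)) = 120)
    (hcs : Nat.card (Subgroup.centralizer ({s} : Set N)) = 120)
    (hneq : Subgroup.centralizer ({t} : Set N) ≠ Subgroup.centralizer ({s} : Set N)) : False := by
  classical
  obtain ⟨ht2, ht1⟩ := ord2_iff.mp ht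
  obtain ⟨hs2, hs1⟩ := ord2_iff.mp hs
  set M := Subgroup.normalizer (K : Set N) with hM
  have hKM : K ≤ M := Subgroup.le_normalizer
  have hordK : ∀ x ∈ K, (orderOf x).Coprime 120 := fun x hx =>
    Nat.Coprime.coprime_dvd_left (orderOf_dvd_card_of_mem hx) hcop
  -- F3
  have hF3 : ∀ h : N, h ∉ M → ∀ x ∈ K, h⁻¹ * x * h ∈ M → x = 1 := by
    intro h hh x hx hxM
    by_contra hx1
    apply hh
    have hy : h⁻¹ * x * h ∈ K := by
      apply mem_of_normalizes K hidx _ hxM
      have h1 : orderOf (h⁻¹ * x * h) = orderOf x := by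
        have h2 : h⁻¹ * x * h = MulAut.conj h⁻¹ x := by simp
        rw [h2]
        exact orderOf_injective (MulAut.conj h⁻¹).toMonoidHom (MulAut.conj h⁻¹).injective x
      rw [h1]
      exact hordK x hx
    have hy1 : h⁻¹ * x * h ≠ 1 := by
      intro h1
      apply hx1
      calc x = h * (h⁻¹ * x * h) * h⁻¹ := by group
        _ = 1 := by rw [h1]; group
    rw [hM, Subgroup.mem_normalizer_iff]
    intro g
    constructor
    · intro hg
      apply hcen x hx hx1
      have h1 := hcomm g hg _ hy
      calc h * g * h⁻¹ * x = h * (g * (h⁻¹ * x * h)) * h⁻¹ := by group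
        _ = h * ((h⁻¹ * x * h) * g) * h⁻¹ := by rw [h1]
        _ = _ := by group
    · intro hg
      apply hcen _ hy hy1
      have h1 := hcomm _ hg _ hx
      calc g * (h⁻¹ * x * h) = h⁻¹ * ((h * g * h⁻¹) * x) * h := by group
        _ = h⁻¹ * (x * (h * g * h⁻¹)) * h := by rw [h1]
        _ = _ := by group
  have hMd : M.index ∣ 120 := by rw [← hidx]; exact Subgroup.index_dvd_of_le hKM
  -- no involution in K
  have hnoinv : ∀ x : N, orderOf x = 2 → x ∉ K := by
    intro x hx hxK
    have := hordK x hxK
    rw [hx] at this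
    exact absurd this (by norm_num)
  -- `M.index ≡ 1` mod 7
  have hmod : M.index % 7 = 1 := by
    have : Fact (Nat.Prime 7) := ⟨by norm_num⟩
    obtain ⟨z, hz⟩ := exists_prime_orderOf_dvd_card' (G := K) 7 h7
    rw [← Subgroup.orderOf_coe] at hz
    have hz1 : (z : N) ≠ 1 := by
      intro h; rw [h, orderOf_one] at hz; omega
    have hp : IsPGroup 7 (Subgroup.zpowers (z : N)) := by
      apply IsPGroup.of_card (n := 1)
      rw [Nat.card_zpowers, hz, pow_one]
    have h1 := hp.card_modEq_card_fixedPoints (N ⧸ M)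
    have h2 : Nat.card (MulAction.fixedPoints (Subgroup.zpowers (z : N)) (N ⧸ M)) = 1 := by
      have h3 : MulAction.fixedPoints (Subgroup.zpowers (z : N)) (N ⧸ M) = {((1 : N) : N ⧸ M)} := by
        ext c
        rw [Set.mem_singleton_iff]
        constructor
        · intro hc
          obtain ⟨h, rfl⟩ := QuotientGroup.mk_surjective c
          have h4 := hc ⟨(z : N), Subgroup.mem_zpowers _⟩
          have h5 : (((z : N) * h : N) : N ⧸ M) = (h : N ⧸ M) := h4
          have h6 := QuotientGroup.eq.mp h5.symm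
          rw [← mul_assoc] at h6
          by_contra hne'
          have hh : h ∉ M := by
            intro hh
            apply hne'
            rw [QuotientGroup.eq, mul_one]
            exact M.inv_mem hh
          exact hz1 (hF3 h hh z z.2 h6)
        · rintro rfl
          rintro ⟨g, hg⟩
          have hgK : g ∈ M := hKM ((Subgroup.zpowers_le.mpr z.2) hg)
          change (((g : N) * 1 : N) : N ⧸ M) = ((1 : N) : N ⧸ M)
          rw [mul_one, QuotientGroup.eq, mul_one]
          exact M.inv_mem hgK
      rw [h3]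
      simp
    rw [h2] at h1
    exact h1
  -- `M.index = 1` or large
  have hlarge : M.index = 1 ∨ 16 ≤ M.index := by
    by_cases hMt : M = ⊤
    · left; rw [hMt, Subgroup.index_top]
    · right
      obtain ⟨h, hh⟩ : ∃ h, h ∉ M := by
        by_contra hcon
        push Not at hcon
        exact hMt (eq_top_iff.mpr fun g _ => hcon g)
      let f : Option K → N ⧸ M := fun o => o.elim ((1 : N) : N ⧸ M) (fun x => (((x : N) * h : N) : N ⧸ M))
      have hf : Function.Injective f := by
        intro a b hab
        rcases a with _ | a <;> rcases b with _ | b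
        · rfl
        · exfalso
          have h1 : ((1 : N) : N ⧸ M) = (((b : N) * h : N) : N ⧸ M) := hab
          rw [QuotientGroup.eq, inv_one, one_mul] at h1
          have h2 := M.mul_mem (M.inv_mem (hKM b.2)) h1
          rw [inv_mul_cancel_left] at h2
          exact hh h2
        · exfalso
          have h1 : ((1 : N) : N ⧸ M) = (((a : N) * h : N) : N ⧸ M) := hab.symm
          rw [QuotientGroup.eq, inv_one, one_mul] at h1
          have h2 := M.mul_mem (M.inv_mem (hKM a.2)) h1
          rw [inv_mul_cancel_left] at h2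
          exact hh h2
        · have h1 : (((a : N) * h : N) : N ⧸ M) = (((b : N) * h : N) : N ⧸ M) := hab
          rw [QuotientGroup.eq] at h1
          have h2 : h⁻¹ * ((a : N)⁻¹ * b) * h ∈ M := by
            have h3 : h⁻¹ * ((a : N)⁻¹ * b) * h = ((a : N) * h)⁻¹ * ((b : N) * h) := by group
            rwa [h3]
          have h4 := hF3 h hh _ (K.mul_mem (K.inv_mem a.2) b.2) h2
          rw [Option.some.injEq]
          exact Subtype.ext (inv_mul_eq_one.mp h4)
      have h1 := Nat.card_le_card_of_injective f hf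
      rw [Finite.card_option] at h1
      change Nat.card K + 1 ≤ M.index at h1
      omega
  have hidx2 : M.index = 1 ∨ M.index = 120 := by
    have key : ∀ n ∈ Nat.divisors 120, n % 7 = 1 → (n = 1 ∨ 16 ≤ n) → n = 1 ∨ n = 120 := by decide
    exact key _ (Nat.mem_divisors.mpr ⟨hMd, by norm_num⟩) hmod hlarge
  have hKne : ∃ x ∈ K, x ≠ 1 := by
    have h1 : 1 < Nat.card K := by omega
    rw [Finite.one_lt_card_iff_nontrivial] at h1
    obtain ⟨x, hx⟩ := exists_ne (1 : K)
    exact ⟨x, x.2, fun h => hx (Subtype.ext h)⟩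
  rcases hidx2 with hi | hi
  · -- K normal
    have hMt : M = ⊤ := Subgroup.index_eq_one.mp hi
    have hconj : ∀ g x : N, x ∈ K → g * x * g⁻¹ ∈ K := by
      intro g x hx
      have : g ∈ M := by rw [hMt]; trivial
      exact (Subgroup.mem_normalizer_iff.mp this x).mp hx
    have hinv : ∀ j : N, orderOf j = 2 → ∀ x ∈ K, j * x * j⁻¹ = x⁻¹ := by
      intro j hj
      refine (fpf_inverts K j (ord2_iff.mp hj).1 (fun x hx => hconj j x hx) ?_).1
      intro x hx hxj
      by_contra hx1
      exact hnoinv j hj (hcen x hx hx1 j hxj.symm)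
    obtain ⟨x, hx, hx1⟩ := hKne
    have h1 : (t * s) * x = x * (t * s) := by
      have h2 := hinv s hs x hx
      have h3 := hinv t ht x⁻¹ (K.inv_mem hx)
      have h4 : (t * s) * x * (t * s)⁻¹ = x := by
        calc (t * s) * x * (t * s)⁻¹ = t * (s * x * s⁻¹) * t⁻¹ := by group
          _ = x := by rw [h2, h3, inv_inv]
      exact mul_inv_eq_iff_eq_mul.mp h4
    have h5 : orderOf (t * s) = 2 := by
      rw [ord2_iff]
      constructor
      · calc t * s * (t * s) = t * (s * t) * s := by group
          _ = t * (t * s) * s := by rw [hts]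
          _ = (t * t) * (s * s) := by group
          _ = 1 := by rw [ht2, hs2, one_mul]
      · intro h6
        apply hne
        calc t = t * (s * s) := by rw [hs2, mul_one]
          _ = (t * s) * s := by group
          _ = s := by rw [h6, one_mul]
    exact hnoinv _ h5 (hcen x hx hx1 _ h1)
  · -- K is a Frobenius complement
    have hMK : K = M := by
      apply Subgroup.eq_of_le_of_card_ge hKM
      have h1 := K.index_mul_card
      have h2 := M.index_mul_card
      rw [hidx] at h1
      rw [hi, ← h1] at h2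
      exact (Nat.eq_of_mul_eq_mul_left (by norm_num) h2).le
    have hFrob : Cfsg.IsFrobeniusComplement K := by
      refine ⟨?_, ?_, ?_⟩
      · rintro rfl
        obtain ⟨x, hx, hx1⟩ := hKne
        exact hx1 (Subgroup.mem_bot.mp hx)
      · rintro rfl
        rw [Subgroup.index_top] at hidx
        omega
      · intro g hg
        rw [eq_bot_iff]
        rintro x ⟨hx, hx'⟩
        rw [Subgroup.mem_bot]
        have h1 := Cfsg.Agent.Solvable.FrobeniusKernel.mem_conj_smul.mp hx'
        exact hF3 g (by rwa [← hMK]) x hx (hKM h1)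
    have hker := Cfsg.Agent.Solvable.FrobeniusKernel.card_kernel hFrob
    rw [hidx] at hker
    have hsub : ∀ u : N, Nat.card (Subgroup.centralizer ({u} : Set N)) = 120 →
        (Subgroup.centralizer ({u} : Set N) : Set N) = Cfsg.frobeniusKernel K := by
      intro u hu
      apply Set.eq_of_subset_of_ncard_le
      · intro g hg
        rw [Cfsg.Agent.Solvable.FrobeniusKernel.mem_kernel_iff]
        by_contra hcon
        push Not at hcon
        obtain ⟨hg1, h, hh⟩ := hcon
        apply hg1
        have h1 : orderOf (h⁻¹ * g * h) = orderOf g := by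
          have h2 : h⁻¹ * g * h = MulAut.conj h⁻¹ g := by simp
          rw [h2]
          exact orderOf_injective (MulAut.conj h⁻¹).toMonoidHom (MulAut.conj h⁻¹).injective g
        have h2 := hordK _ hh
        rw [h1] at h2
        have h3 : orderOf g ∣ 120 := by rw [← hu]; exact orderOf_dvd_card_of_mem hg
        have h4 : orderOf g = 1 := Nat.Coprime.eq_one_of_dvd h2 h3
        exact orderOf_eq_one_iff.mp h4
      · rw [← Nat.card_coe_set_eq, ← Nat.card_coe_set_eq, hker]
        exact hu.ge
      · exact Set.toFinite _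
    exact hneq (SetLike.coe_injective ((hsub t hct).trans (hsub s hcs).symm))

theorem eq_top {G : Type*} [Group G] [Finite G] (h : Local G) (H : Subgroup G) (t : G) (ht : orderOf t = 2)
    (htH : t ∈ H) (hH : ∀ x ∈ H, orderOf x = 2 → Subgroup.centralizer {x} ≤ H) : H = ⊤ := by
  classical
  by_contra hne
  have E : Emb H := ⟨h, ⟨t, htH, ht⟩, fun x hx hx2 g hg => hH x hx hx2 (mem_cent.mpr hg)⟩
  obtain ⟨K, hK⟩ := exists_K E hne
  obtain ⟨φ, hφ⟩ := exists_centData t ht (E.loc.cent t ht)
  -- the second involution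
  have hsH : φ a0 ∈ H := E.cen t htH ht _ (hφ.comm a0).symm
  have hs : orderOf (φ a0) = 2 := by
    rw [ord2_iff]
    exact ⟨by rw [← map_mul, a0_sq, map_one], fun h => a0_ne (hφ.inj (by rw [h, map_one]))⟩
  have hcard : Nat.card (K.subgroupOf H) = Nat.card K := by
    have h1 := Subgroup.subgroupOf_map_subtype K H
    rw [inf_eq_left.mpr hK.le] at h1
    conv_rhs => rw [← h1]
    exact (Subgroup.card_map_of_injective (H.subtype_injective)).symm
  have hk15 : 15 ≤ Nat.card K := by
    have h1 := card_H E
    have h2 := card_pos E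
    have h3 := hK.card
    omega
  have hcent : ∀ x : G, ∀ hx : x ∈ H, orderOf x = 2 →
      Nat.card (Subgroup.centralizer ({(⟨x, hx⟩ : H)} : Set H)) = 120 := by
    intro x hx hx2
    rw [← card_cent2 h x hx2]
    refine Nat.card_congr ⟨fun g => ⟨g.1.1, ?_⟩, fun g => ⟨⟨g.1, hH x hx hx2 g.2⟩, ?_⟩, fun g => rfl, fun g => rfl⟩
    · exact mem_cent.mpr (congrArg Subtype.val (mem_cent.mp g.2))
    · exact mem_cent.mpr (Subtype.ext (mem_cent.mp g.2))
  refine final (N := H) (K.subgroupOf H) (by rw [hcard]; exact hK.cop) ?_ ?_ ?_ (by rw [hcard]; exact hk15)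
    ?_ ⟨t, htH⟩ ⟨φ a0, hsH⟩ ?_ ?_ ?_ (Subtype.ext (hφ.comm a0)) (hcent t htH ht) (hcent _ hsH hs) ?_
  · have h1 := (K.subgroupOf H).index_mul_card
    rw [hcard, ← hK.card, mul_comm] at h1
    exact Nat.eq_of_mul_eq_mul_left (by omega) h1
  · intro x hx y hy
    exact Subtype.ext (hK.comm x hx y hy)
  · intro x hx hx1 g hg
    exact hK.cen x hx (fun h => hx1 (Subtype.ext h)) g g.2 (congrArg Subtype.val hg)
  · rw [hcard]
    have h1 := seven_dvd E
    rw [← hK.card] at h1
    exact (Nat.Coprime.dvd_of_dvd_mul_right (by norm_num) h1)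
  · rw [← Subgroup.orderOf_coe]; exact ht
  · rw [← Subgroup.orderOf_coe]; exact hs
  · intro h1
    exact hφ.ne a0 (congrArg Subtype.val h1).symm
  · intro h1
    obtain ⟨a, ha⟩ := A5_exists_three
    have haH : φ a ∈ H := E.cen t htH ht _ (hφ.comm a).symm
    have h2 : (⟨φ a, haH⟩ : H) ∈ Subgroup.centralizer ({(⟨t, htH⟩ : H)} : Set H) :=
      mem_cent.mpr (Subtype.ext (hφ.comm a).symm)
    rw [h1] at h2
    have h3 : φ a * φ a0 = φ a0 * φ a := congrArg Subtype.val (mem_cent.mp h2)
    have h4 : a * a0 = a0 * a := hφ.inj (by rw [map_mul, map_mul, h3])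
    have h5 := A5_comm_inv a a0 a0_sq a0_ne h4
    have h6 := orderOf_dvd_of_pow_eq_one h5
    rw [ha] at h6
    exact absurd h6 (by norm_num)

end Cfsg.Agent.SporRec.J1.EqTop
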