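import Cfsg.Agent.SporRec.J1.Enum
import Cfsg.Agent.SporRec.J1.Words

/-!
A nontrivial group generated by five involutions satisfying `Gens` is isomorphic to the matrix
group `Cfsg.Spor.J1`.
-/

set_option autoImplicit false

namespace Cfsg.Agent.SporRec.J1.Iso

open Cfsg.Agent.SporRec.J1.Defs Cfsg.Agent.SporRec.J1.Words Cfsg.Spor

theorem gens_prod {G H : Type*} [Group G] [Group H] {a b c d e : G} {a' b' c' d' e' : H}
    (h : Gens a b c d e) (h' : Gens a' b' c' d' e') :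
    Gens (a, a') (b, b') (c, c') (d, d') (e, e') where
  a2 := Prod.ext h.a2 h'.a2
  b2 := Prod.ext h.b2 h'.b2
  c2 := Prod.ext h.c2 h'.c2
  d2 := Prod.ext h.d2 h'.d2
  e2 := Prod.ext h.e2 h'.e2
  ab := Prod.ext h.ab h'.ab
  bc := Prod.ext h.bc h'.bc
  cd := Prod.ext h.cd h'.cd
  de := Prod.ext h.de h'.de
  ac := Prod.ext h.ac h'.ac
  ad := Prod.ext h.ad h'.ad
  ae := Prod.ext h.ae h'.ae
  bd := Prod.ext h.bd h'.bd
  be := Prod.ext h.be h'.be
  ce := Prod.ext h.ce h'.ce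
  abc := Prod.ext h.abc h'.abc
  bcd := Prod.ext h.bcd h'.bcd
  cde := Prod.ext h.cde h'.cde

theorem gens_subgroup {G : Type*} [Group G] (K : Subgroup G) {a b c d e : G}
    (h : Gens a b c d e) (ha : a ∈ K) (hb : b ∈ K) (hc : c ∈ K) (hd : d ∈ K) (he : e ∈ K) :
    Gens (⟨a, ha⟩ : K) ⟨b, hb⟩ ⟨c, hc⟩ ⟨d, hd⟩ ⟨e, he⟩ where
  a2 := Subtype.ext h.a2
  b2 := Subtype.ext h.b2
  c2 := Subtype.ext h.c2
  d2 := Subtype.ext h.d2
  e2 := Subtype.ext h.e2
  ab := Subtype.ext h.ab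
  bc := Subtype.ext h.bc
  cd := Subtype.ext h.cd
  de := Subtype.ext h.de
  ac := Subtype.ext h.ac
  ad := Subtype.ext h.ad
  ae := Subtype.ext h.ae
  bd := Subtype.ext h.bd
  be := Subtype.ext h.be
  ce := Subtype.ext h.ce
  abc := Subtype.ext h.abc
  bcd := Subtype.ext h.bcd
  cde := Subtype.ext h.cde

theorem iso_of_gens {G : Type*} [Group G] [Nontrivial G] {a b c d e : G} (h : Gens a b c d e)
    (hgen : Subgroup.closure ({a, b, c, d, e} : Set G) = ⊤) : Nonempty (G ≃* J1) := by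
  let S : Set (G × J1) := {(a, ga), (b, gb), (c, gc), (d, gd), (e, ge)}
  let K : Subgroup (G × J1) := Subgroup.closure S
  have hprod := gens_prod h gens
  have ha : (a, ga) ∈ K := Subgroup.subset_closure (by simp [S])
  have hb : (b, gb) ∈ K := Subgroup.subset_closure (by simp [S])
  have hc : (c, gc) ∈ K := Subgroup.subset_closure (by simp [S])
  have hd : (d, gd) ∈ K := Subgroup.subset_closure (by simp [S])
  have he : (e, ge) ∈ K := Subgroup.subset_closure (by simp [S])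
  have hK := gens_subgroup K hprod ha hb hc hd he
  have hgenK : Subgroup.closure ({⟨(a, ga), ha⟩, ⟨(b, gb), hb⟩, ⟨(c, gc), hc⟩, ⟨(d, gd), hd⟩,
      ⟨(e, ge), he⟩} : Set K) = ⊤ := by
    have hm : (Subgroup.closure ({⟨(a, ga), ha⟩, ⟨(b, gb), hb⟩, ⟨(c, gc), hc⟩, ⟨(d, gd), hd⟩,
        ⟨(e, ge), he⟩} : Set K)).map K.subtype = (⊤ : Subgroup K).map K.subtype := by
      rw [MonoidHom.map_closure, ← MonoidHom.range_eq_map, Subgroup.range_subtype]
      congr 1
      ext x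
      simp only [Set.mem_image, Set.mem_insert_iff, Set.mem_singleton_iff]
      constructor
      · rintro ⟨y, rfl | rfl | rfl | rfl | rfl, rfl⟩ <;> simp [S]
      · intro hx
        rcases hx with rfl | rfl | rfl | rfl | rfl
        · exact ⟨⟨(a, ga), ha⟩, Or.inl rfl, rfl⟩
        · exact ⟨⟨(b, gb), hb⟩, Or.inr (Or.inl rfl), rfl⟩
        · exact ⟨⟨(c, gc), hc⟩, Or.inr (Or.inr (Or.inl rfl)), rfl⟩
        · exact ⟨⟨(d, gd), hd⟩, Or.inr (Or.inr (Or.inr (Or.inl rfl))), rfl⟩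
        · exact ⟨⟨(e, ge), he⟩, Or.inr (Or.inr (Or.inr (Or.inr rfl))), rfl⟩
    exact Subgroup.map_injective K.subtype_injective hm
  obtain ⟨hfin, hcard⟩ := Enum.card_le hK hgenK
  -- the two projections
  let p1 : K →* G := (MonoidHom.fst G J1).comp K.subtype
  let p2 : K →* J1 := (MonoidHom.snd G J1).comp K.subtype
  have hp1 : Function.Surjective p1 := by
    rw [← MonoidHom.range_eq_top, eq_top_iff, ← hgen, Subgroup.closure_le]
    rintro x (rfl | rfl | rfl | rfl | rfl)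
    · exact ⟨⟨_, ha⟩, rfl⟩
    · exact ⟨⟨_, hb⟩, rfl⟩
    · exact ⟨⟨_, hc⟩, rfl⟩
    · exact ⟨⟨_, hd⟩, rfl⟩
    · exact ⟨⟨_, he⟩, rfl⟩
  have hp2 : Function.Surjective p2 := by
    rw [← MonoidHom.range_eq_top, eq_top_iff, ← closure_eq_top, Subgroup.closure_le]
    rintro x (hx | hx | hx | hx | hx)
    · rw [hx]; exact ⟨⟨_, ha⟩, rfl⟩
    · rw [hx]; exact ⟨⟨_, hb⟩, rfl⟩
    · rw [hx]; exact ⟨⟨_, hc⟩, rfl⟩
    · rw [hx]; exact ⟨⟨_, hd⟩, rfl⟩
    · rw [hx]; exact ⟨⟨_, he⟩, rfl⟩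
  have hJfin : Finite J1 := Nat.finite_of_card_ne_zero (by rw [card_J1]; norm_num)
  have hcardK : Nat.card K = Nat.card J1 := by
    refine le_antisymm ?_ (Nat.card_le_card_of_surjective p2 hp2)
    rw [card_J1]; exact hcard
  have hbij : Function.Bijective p2 := by
    rw [Nat.bijective_iff_surjective_and_card]
    exact ⟨hp2, hcardK⟩
  let e2 : K ≃* J1 := MulEquiv.ofBijective p2 hbij
  -- the surjection `J1 → G`
  let q : J1 →* G := p1.comp e2.symm.toMonoidHom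
  have hq : Function.Surjective q := hp1.comp e2.symm.surjective
  haveI := isSimple
  have hker : q.ker = ⊥ := by
    rcases IsSimpleGroup.eq_bot_or_eq_top_of_normal q.ker inferInstance with h1 | h1
    · exact h1
    · exfalso
      obtain ⟨x, hx⟩ := exists_ne (1 : G)
      obtain ⟨y, rfl⟩ := hq x
      apply hx
      have : y ∈ q.ker := by rw [h1]; trivial
      exact this
  have hqinj : Function.Injective q := (MonoidHom.ker_eq_bot_iff q).mp hker
  exact ⟨(MulEquiv.ofBijective q ⟨hqinj, hq⟩).symm⟩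

end Cfsg.Agent.SporRec.J1.Iso
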