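import Cfsg.Agent.SporRec.J1.Derive
import Cfsg.Agent.SporRec.J1.Iso
import Cfsg.Agent.SporRec.J1.EqTop

/-!
A finite group with the local structure `Local` and containing an involution is isomorphic to the
matrix group `Cfsg.Spor.J1`.
-/

set_option autoImplicit false

namespace Cfsg.Agent.SporRec.J1.Main

open Cfsg.Agent.SporRec.J1.Defs Cfsg.Agent.SporRec.J1.CentFacts Cfsg.Agent.SporRec.J1.Pair
open Cfsg.Agent.SporRec.J1.Transfer Cfsg.Agent.SporRec.J1.Derive
open Cfsg.Agent.SporRec.J1.A5More (s0 d0 c0 c1 w0)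

variable {G : Type*} [Group G]

/-- two involutions whose product has odd order are conjugate under the group they generate -/
theorem conj_of_odd {H : Subgroup G} {x y : G} (hx : x ∈ H) (hy : y ∈ H) (xx : x * x = 1)
    (yy : y * y = 1) (m : ℕ) (h : (x * y) ^ (2 * m + 1) = 1) : ∃ g ∈ H, g * x * g⁻¹ = y := by
  have hxi : x⁻¹ = x := inv_eq_of_mul_eq_one_right xx
  have hyi : y⁻¹ = y := inv_eq_of_mul_eq_one_right yy
  refine ⟨(x * y) ^ m, H.pow_mem (H.mul_mem hx hy) m, ?_⟩
  have h1 : ∀ n : ℕ, x * (y * x) ^ n = (x * y) ^ n * x := by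
    intro n
    induction n with
    | zero => simp
    | succ n ih =>
      calc x * (y * x) ^ (n + 1) = (x * (y * x) ^ n) * (y * x) := by rw [pow_succ]; group
        _ = (x * y) ^ n * x * (y * x) := by rw [ih]
        _ = (x * y) ^ (n + 1) * x := by rw [pow_succ]; group
  have h2 : ((x * y) ^ m)⁻¹ = (y * x) ^ m := by
    rw [← inv_pow, mul_inv_rev, hxi, hyi]
  rw [h2]
  calc (x * y) ^ m * x * (y * x) ^ m = (x * y) ^ m * (x * (y * x) ^ m) := by rw [mul_assoc]
    _ = (x * y) ^ m * ((x * y) ^ m * x) := by rw [h1]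
    _ = (x * y) ^ (2 * m) * x := by rw [two_mul, pow_add]; group
    _ = (x * y) ^ (2 * m + 1) * (x * y)⁻¹ * x := by rw [pow_succ]; group
    _ = y := by rw [h, mul_inv_rev, hxi, hyi, one_mul, mul_assoc, xx, mul_one]

theorem card_A5 : Nat.card A5 = 60 := by
  have := two_mul_nat_card_alternatingGroup (α := Fin 5)
  rw [Nat.card_perm, Nat.card_fin] at this
  have h5 : Nat.factorial 5 = 120 := by decide
  rw [h5] at this
  have h2 : Nat.card (alternatingGroup (Fin 5)) = 60 := by omega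
  exact h2

theorem fac_eq_three {n : ℕ} (hn : n ≠ 0) (h8 : 8 ∣ n) (h16 : ¬ 16 ∣ n) : n.factorization 2 = 3 := by
  apply le_antisymm
  · by_contra hlt
    apply h16
    have : 4 ≤ n.factorization 2 := by omega
    exact (Nat.prime_two.pow_dvd_iff_le_factorization hn).mpr this
  · exact (Nat.prime_two.pow_dvd_iff_le_factorization hn).mp h8

theorem closure_top {cc : A5} (h : cc = c0 ∨ cc = c1) :
    Subgroup.closure ({cc, d0, s0} : Set A5) = ⊤ := by
  set K := Subgroup.closure ({cc, d0, s0} : Set A5) with hK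
  have hcc : cc ∈ K := Subgroup.subset_closure (by simp)
  have hd : d0 ∈ K := Subgroup.subset_closure (by simp)
  have hs : s0 ∈ K := Subgroup.subset_closure (by simp)
  obtain ⟨f1, f2, f3, f4, f5, f6, f7⟩ := cc_facts h
  have h60 : Nat.card A5 = 60 := card_A5
  have d2 : 2 ∣ Nat.card K := by
    have h1 : orderOf s0 = 2 := orderOf_two A5More.s0_sq A5More.s0_ne
    have := Subgroup.orderOf_dvd_natCard K hs
    rwa [h1] at this
  have d3 : 3 ∣ Nat.card K := by
    have : Fact (Nat.Prime 3) := ⟨Nat.prime_three⟩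
    have h1 : orderOf (d0 * s0) = 3 := orderOf_eq_prime A5More.ds A5More.ds_ne
    have := Subgroup.orderOf_dvd_natCard K (K.mul_mem hd hs)
    rwa [h1] at this
  have d5 : 5 ∣ Nat.card K := by
    have : Fact (Nat.Prime 5) := ⟨Nat.prime_five⟩
    have h1 : orderOf (cc * d0) = 5 := orderOf_eq_prime f5 f6
    have := Subgroup.orderOf_dvd_natCard K (K.mul_mem hcc hd)
    rwa [h1] at this
  have d30 : 30 ∣ Nat.card K := by
    have h6 : 6 ∣ Nat.card K := by
      have : Nat.Coprime 2 3 := by norm_num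
      exact this.mul_dvd_of_dvd_of_dvd d2 d3
    have : Nat.Coprime 6 5 := by norm_num
    exact this.mul_dvd_of_dvd_of_dvd h6 d5
  have hidx := K.card_mul_index
  rw [h60] at hidx
  have hpos : 0 < Nat.card K := Nat.card_pos
  obtain ⟨m, hm⟩ := d30
  rw [hm] at hidx
  have : m * K.index = 2 := by nlinarith
  have hi : K.index = 1 ∨ K.index = 2 := by
    have h1 : K.index ∣ 2 := ⟨m, by linarith [mul_comm m K.index]⟩
    have := Nat.le_of_dvd (by norm_num) h1
    have h0 : K.index ≠ 0 := by rintro h0; rw [h0] at h1; omega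
    omega
  rcases hi with h1 | h1
  · exact Subgroup.index_eq_one.mp h1
  · exfalso
    have hn : K.Normal := Subgroup.normal_of_index_eq_two h1
    have hsimple : IsSimpleGroup A5 := alternatingGroup.isSimpleGroup_five
    rcases hsimple.eq_bot_or_eq_top_of_normal K hn with h2 | h2
    · rw [h2] at hs
      exact A5More.s0_ne (Subgroup.mem_bot.mp hs)
    · rw [h2, Subgroup.index_top] at h1
      omega

/-- conjugacy in `A5` of involutions -/
theorem A5_conj' (x y : A5) (hx : x * x = 1) (hx1 : x ≠ 1) (hy : y * y = 1) (hy1 : y ≠ 1) :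
    ∃ g : A5, g * x * g⁻¹ = y := A5_conj x y hx hx1 hy hy1

variable [Finite G]

/-- the subgroup generated by the generators contains the centralisers of its involutions -/
theorem centralizers_le {a v : G} {φ : A5 →* G} (S : Setup a v φ) {b c d e : G}
    (h : Gens a b c d e) {cc : A5} (hcc : cc = c0 ∨ cc = c1) (hc : c = φ cc) (hd : d = φ d0)
    (he : e = φ s0) (hcF : c ∉ F e) :
    ∀ x ∈ Subgroup.closure ({a, b, c, d, e} : Set G), orderOf x = 2 →
      Subgroup.centralizer ({x} : Set G) ≤ Subgroup.closure ({a, b, c, d, e} : Set G) := by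
  have P := S.P
  have haa := S.aa
  set H := Subgroup.closure ({a, b, c, d, e} : Set G) with hH
  have aH : a ∈ H := Subgroup.subset_closure (by simp)
  have bH : b ∈ H := Subgroup.subset_closure (by simp)
  have cH : c ∈ H := Subgroup.subset_closure (by simp)
  have dH : d ∈ H := Subgroup.subset_closure (by simp)
  have eH : e ∈ H := Subgroup.subset_closure (by simp)
  -- φ(A5) ≤ H
  have hφ : ∀ p, φ p ∈ H := by
    intro p
    have : (Subgroup.closure ({cc, d0, s0} : Set A5)).map φ ≤ H := by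
      rw [MonoidHom.map_closure, Subgroup.closure_le]
      rintro _ ⟨t, rfl | rfl | rfl, rfl⟩
      · rw [← hc]; exact cH
      · rw [← hd]; exact dH
      · rw [← he]; exact eH
    apply this
    rw [closure_top hcc]
    exact ⟨p, trivial, rfl⟩
  have hCa : ∀ g, g * a = a * g → g ∈ H := by
    intro g hg
    obtain ⟨p, rfl | rfl⟩ := P.cover g hg
    · exact hφ p
    · exact H.mul_mem aH (hφ p)
  -- conjugacy relation in H
  have trans : ∀ {x y z : G}, (∃ g ∈ H, g * x * g⁻¹ = y) → (∃ g ∈ H, g * y * g⁻¹ = z) →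
      ∃ g ∈ H, g * x * g⁻¹ = z := by
    rintro x y z ⟨g, hg, rfl⟩ ⟨k, hk, rfl⟩
    exact ⟨k * g, H.mul_mem hk hg, by group⟩
  have symm' : ∀ {x y : G}, (∃ g ∈ H, g * x * g⁻¹ = y) → ∃ g ∈ H, g * y * g⁻¹ = x := by
    rintro x y ⟨g, hg, rfl⟩
    exact ⟨g⁻¹, H.inv_mem hg, by group⟩
  have hab := conj_of_odd aH bH h.a2 h.b2 2 h.ab
  have hbc := conj_of_odd bH cH h.b2 h.c2 1 h.bc
  have hcd := conj_of_odd cH dH h.c2 h.d2 2 h.cd
  have hde := conj_of_odd dH eH h.d2 h.e2 1 h.de
  have hae : ∃ g ∈ H, g * a * g⁻¹ = e := trans (trans (trans hab hbc) hcd) hde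
  -- centraliser of a conjugate of a
  have hCx : ∀ x, (∃ g ∈ H, g * a * g⁻¹ = x) → ∀ y, y * x = x * y → y ∈ H := by
    rintro x ⟨g, hg, rfl⟩ y hy
    have h1 : (g⁻¹ * y * g) * a = a * (g⁻¹ * y * g) := by
      calc (g⁻¹ * y * g) * a = g⁻¹ * (y * (g * a * g⁻¹)) * g := by group
        _ = g⁻¹ * ((g * a * g⁻¹) * y) * g := by rw [hy]
        _ = _ := by group
    have h2 := hCa _ h1
    have : y = g * (g⁻¹ * y * g) * g⁻¹ := by group
    rw [this]
    exact H.mul_mem (H.mul_mem hg h2) (H.inv_mem hg)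
  -- involutions in C(a)
  have hss : φ s0 * φ s0 = 1 := by rw [← he, h.e2]
  have hinvφ : ∀ p : A5, p * p = 1 → p ≠ 1 → ∃ g ∈ H, g * a * g⁻¹ = φ p := by
    intro p hp hp1
    obtain ⟨g, hg⟩ := A5_conj' s0 p A5More.s0_sq A5More.s0_ne hp hp1
    refine trans hae ⟨φ g, hφ g, ?_⟩
    rw [he, ← map_inv, ← map_mul, ← map_mul, hg]
  -- a e is conjugate to a
  have e1 : e ≠ 1 := by
    rw [he]; intro h1; exact A5More.s0_ne ((map_eq_one_iff φ P.inj).mp h1)
  have he2 := orderOf_two h.e2 e1
  obtain ⟨ψ, P'⟩ := exists_centData e he2 (S.loc.cent e he2)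
  have hane : a ≠ e := fun h1 => P.ne s0 (by rw [← he]; exact h1.symm)
  have heF : e ∈ F a := (P.range e).mpr ⟨s0, he.symm⟩
  have haF : a ∉ F e := (S.loc.typeRule a e S.ha he2 hane h.ae).mp heF
  have haψ : ∃ p, a = e * ψ p := by
    obtain ⟨p, h1 | h1⟩ := P'.cover a h.ae
    · exact absurd ((P'.range a).mpr ⟨p, h1.symm⟩) haF
    · exact ⟨p, h1⟩
  have hcψ : ∃ p, c = e * ψ p := by
    obtain ⟨p, h1 | h1⟩ := P'.cover c h.ce
    · exact absurd ((P'.range c).mpr ⟨p, h1.symm⟩) hcF
    · exact ⟨p, h1⟩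
  obtain ⟨p, hp⟩ := haψ
  obtain ⟨r, hr⟩ := hcψ
  obtain ⟨f1, f2, f3, f4, f5, f6, f7⟩ := cc_facts hcc
  have hcene : c ≠ e := by
    rw [hc, he]; intro h1; exact f4 (P.inj h1)
  have pp : p * p = 1 := by
    apply P'.inj
    rw [map_mul, map_one, ← mul_self_cancel h.e2 (P'.comm p), ← hp, haa]
  have p1 : p ≠ 1 := by
    rintro rfl; rw [map_one, mul_one] at hp; exact hane hp
  have rr : r * r = 1 := by
    apply P'.inj
    rw [map_mul, map_one, ← mul_self_cancel h.e2 (P'.comm r), ← hr, h.c2]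
  have r1 : r ≠ 1 := by
    rintro rfl; rw [map_one, mul_one] at hr; exact hcene hr
  have hconj_ae : ∃ g ∈ H, g * a * g⁻¹ = a * e := by
    -- e c = ψ r is φ (s0 cc)
    have h1 : ∃ g ∈ H, g * a * g⁻¹ = ψ r := by
      have h2 : ψ r = φ (s0 * cc) := by
        rw [map_mul, ← he, ← hc, hr, ← mul_assoc, h.e2, one_mul]
      rw [h2]
      apply hinvφ
      · calc s0 * cc * (s0 * cc) = s0 * (cc * s0) * cc := by group
          _ = (s0 * s0) * (cc * cc) := by rw [f3]; group
          _ = 1 := by rw [A5More.s0_sq, f1, one_mul]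
      · intro h3
        apply f4
        have : cc = s0⁻¹ := (inv_eq_of_mul_eq_one_right h3).symm
        rw [this, inv_eq_of_mul_eq_one_right A5More.s0_sq]
    obtain ⟨g, hg⟩ := A5_conj' r p rr r1 pp p1
    refine trans h1 ⟨ψ g, ?_, ?_⟩
    · exact hCx e hae _ (P'.comm g).symm
    · rw [← map_inv, ← map_mul, ← map_mul, hg]
      have : a * e = e * ψ p * e := by rw [← hp]
      rw [this, mul_assoc, ← P'.comm, ← mul_assoc, h.e2, one_mul]
  have hinvC : ∀ x, x * a = a * x → x * x = 1 → x ≠ 1 → ∃ g ∈ H, g * a * g⁻¹ = x := by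
    intro x hx hxx hx1
    obtain ⟨t, rfl | rfl⟩ := P.cover x hx
    · apply hinvφ
      · apply P.inj; rw [map_mul, hxx, map_one]
      · rintro rfl; exact hx1 (map_one φ)
    · by_cases ht : t = 1
      · refine ⟨1, H.one_mem, ?_⟩
        rw [ht, map_one]; group
      · have htt : t * t = 1 := by
          apply P.inj
          rw [map_mul, map_one, ← mul_self_cancel haa (P.comm t), hxx]
        obtain ⟨g, hg⟩ := A5_conj' s0 t A5More.s0_sq A5More.s0_ne htt ht
        refine trans hconj_ae ⟨φ g, hφ g, ?_⟩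
        rw [he]
        calc φ g * (a * φ s0) * (φ g)⁻¹ = (φ g * a) * φ s0 * (φ g)⁻¹ := by group
          _ = a * (φ g * φ s0 * (φ g)⁻¹) := by rw [← P.comm g]; group
          _ = a * φ t := by rw [← map_inv, ← map_mul, ← map_mul, hg]
  -- Sylow argument
  intro x hx hx2
  have key : ∃ g ∈ H, g * a * g⁻¹ = x := by
    classical
    have : Fact (Nat.Prime 2) := ⟨Nat.prime_two⟩
    set C := Subgroup.centralizer ({a} : Set G) with hCdef
    have hCH : C ≤ H := by
      intro g hg
      exact hCa g (Subgroup.mem_centralizer_singleton_iff.mp hg)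
    have hCcard : Nat.card C = 120 := by
      obtain ⟨i⟩ := S.loc.cent a S.ha
      rw [Nat.card_congr i.toEquiv, Nat.card_prod]
      have h60 : Nat.card A5 = 60 := card_A5
      have h2 : Nat.card (Multiplicative (ZMod 2)) = 2 := by
        rw [Nat.card_eq_fintype_card]; rfl
      rw [h2, h60]
    -- a Sylow 2-subgroup of H inside C
    let T : Sylow 2 (C.subgroupOf H) := default
    have hcardCH : Nat.card (C.subgroupOf H) = 120 := by
      rw [← hCcard]
      exact Nat.card_congr (Subgroup.subgroupOfEquivOfLe hCH).toEquiv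
    have hT : Nat.card T = 8 := by
      rw [T.card_eq_multiplicity, hcardCH]
      rw [fac_eq_three (by norm_num) (by norm_num) (by norm_num)]; norm_num
    let T' : Subgroup H := (T : Subgroup (C.subgroupOf H)).map (C.subgroupOf H).subtype
    have hT' : Nat.card T' = 8 := by
      rw [← hT]
      exact Nat.card_congr ((T : Subgroup (C.subgroupOf H)).equivMapOfInjective _
        (C.subgroupOf H).subtype_injective).symm.toEquiv
    have hHdvd : Nat.card H ∣ Nat.card G := Subgroup.card_subgroup_dvd_card H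
    have h16 : ¬ 16 ∣ Nat.card H := fun h16 => S.loc.two (h16.trans hHdvd)
    have h8 : 8 ∣ Nat.card H := by
      rw [← hT']; exact Subgroup.card_subgroup_dvd_card T'
    have hfac : (Nat.card H).factorization 2 = 3 := fac_eq_three Nat.card_pos.ne' h8 h16
    let Q : Sylow 2 H := Sylow.ofCard T' (by rw [hT', hfac]; norm_num)
    let x' : H := ⟨x, hx⟩
    have hx' : orderOf x' = 2 := by rw [← hx2]; exact Subgroup.orderOf_mk x hx
    have hpg : IsPGroup 2 (Subgroup.zpowers x') := by
      apply IsPGroup.of_card (n := 1)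
      rw [Nat.card_zpowers, hx', pow_one]
    obtain ⟨R, hR⟩ := hpg.exists_le_sylow
    obtain ⟨k, hk⟩ := MulAction.exists_smul_eq H R Q
    have hxR : x' ∈ R := hR (Subgroup.mem_zpowers x')
    have hxQ : k * x' * k⁻¹ ∈ Q := by
      rw [← hk]
      exact Subgroup.smul_mem_pointwise_smul x' (MulAut.conj k) R.1 hxR
    have hxT : k * x' * k⁻¹ ∈ T' := hxQ
    obtain ⟨y, _, hy⟩ := hxT
    have hyC : ((k * x' * k⁻¹ : H) : G) ∈ C := by
      rw [← hy]; exact y.2
    have hcomm := Subgroup.mem_centralizer_singleton_iff.mp hyC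
    have hxx := sq_of_two hx2
    have hx1 := ne_of_two hx2
    have hval : ((k * x' * k⁻¹ : H) : G) = (k : G) * x * (k : G)⁻¹ := rfl
    rw [hval] at hcomm
    obtain ⟨g, hg, hgx⟩ := hinvC _ hcomm (by
      calc (k : G) * x * (k : G)⁻¹ * ((k : G) * x * (k : G)⁻¹) = (k : G) * (x * x) * (k : G)⁻¹ := by group
        _ = 1 := by rw [hxx]; group) (by
      rw [Ne, conj_eq_one_iff]; exact hx1)
    refine ⟨(k : G)⁻¹ * g, H.mul_mem (H.inv_mem k.2) hg, ?_⟩
    calc (k : G)⁻¹ * g * a * ((k : G)⁻¹ * g)⁻¹ = (k : G)⁻¹ * (g * a * g⁻¹) * (k : G) := by group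
      _ = x := by rw [hgx]; group
  intro y hy
  exact hCx x key y (Subgroup.mem_centralizer_singleton_iff.mp hy)

theorem iso_of_local (h : Local G) (t : G) (ht : orderOf t = 2) : Nonempty (G ≃* Cfsg.Spor.J1) := by
  obtain ⟨φ, P⟩ := exists_centData t ht (h.cent t ht)
  obtain ⟨v, D⟩ := exists_pd3 h ht P
  have S : Setup t v φ := ⟨h, ht, P, D⟩
  have hβ : φ s0 * v * (φ s0)⁻¹ = v := by
    rcases S.dich with h1 | h1
    · exact h1
    · exact absurd (alpha S h1) id
  obtain ⟨b, c, d, e, hg, ⟨cc, hcc, hc⟩, hd, he, hcF⟩ := beta S hβ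
  have hle := centralizers_le S hg hcc hc hd he hcF
  have htH : t ∈ Subgroup.closure ({t, b, c, d, e} : Set G) := Subgroup.subset_closure (by simp)
  have htop := EqTop.eq_top h _ t ht htH hle
  have : Nontrivial G := ⟨t, 1, ne_of_two ht⟩
  exact Iso.iso_of_gens hg htop

end Cfsg.Agent.SporRec.J1.Main
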