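import Mathlib

/-!
Facts on `alternatingGroup (Fin 5)` used to find generators of a group of type `J1`.
-/

set_option autoImplicit false

namespace Cfsg.Agent.SporRec.J1.A5More

/-- abbreviation for `A5`. -/
abbrev A5 := alternatingGroup (Fin 5)

/-- `(0 1)(3 4)` -/
def s0 : A5 := ⟨Equiv.swap 0 1 * Equiv.swap 3 4, by rw [Equiv.Perm.mem_alternatingGroup]; decide⟩
/-- `(1 2)(3 4)` -/
def d0 : A5 := ⟨Equiv.swap 1 2 * Equiv.swap 3 4, by rw [Equiv.Perm.mem_alternatingGroup]; decide⟩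
/-- `(0 3)(1 4)` -/
def c0 : A5 := ⟨Equiv.swap 0 3 * Equiv.swap 1 4, by rw [Equiv.Perm.mem_alternatingGroup]; decide⟩
/-- `(0 4)(1 3)` -/
def c1 : A5 := c0 * s0
/-- the 3-cycle -/
def w0 : A5 := d0 * s0

theorem s0_sq : s0 * s0 = 1 := by decide +kernel
theorem d0_sq : d0 * d0 = 1 := by decide +kernel
theorem c0_sq : c0 * c0 = 1 := by decide +kernel
theorem c1_sq : c1 * c1 = 1 := by decide +kernel
theorem s0_ne : s0 ≠ 1 := by decide +kernel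
theorem c0_ne : c0 ≠ 1 := by decide +kernel
theorem c1_ne : c1 ≠ 1 := by decide +kernel
theorem c0s0 : c0 * s0 = s0 * c0 := by decide +kernel
theorem c1s0 : c1 * s0 = s0 * c1 := by decide +kernel
theorem c0_ne_s0 : c0 ≠ s0 := by decide +kernel
theorem c1_ne_s0 : c1 ≠ s0 := by decide +kernel
theorem ds : (d0 * s0) ^ 3 = 1 := by decide +kernel
theorem ds_ne : d0 * s0 ≠ 1 := by decide +kernel
theorem c0d0 : (c0 * d0) ^ 5 = 1 := by decide +kernel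
theorem c1d0 : (c1 * d0) ^ 5 = 1 := by decide +kernel
theorem c0d0_ne : c0 * d0 ≠ 1 := by decide +kernel
theorem c1d0_ne : c1 * d0 ≠ 1 := by decide +kernel
theorem c0d0s0 : (c0 * d0 * s0) ^ 5 = 1 := by decide +kernel
theorem c1d0s0 : (c1 * d0 * s0) ^ 5 = 1 := by decide +kernel

theorem comm3 : ∀ p : A5, p * w0 = w0 * p → p ^ 3 = 1 := by decide +kernel

theorem comm5 : ∀ p v : A5, (v ^ 5 = 1 ∧ v ≠ 1) → p * v = v * p → p ^ 5 = 1 := by decide +kernel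

theorem conj3 : ∀ p : A5, (p ^ 3 = 1 ∧ p ≠ 1) → ∃ h : A5, h * p * h⁻¹ = w0 := by decide +kernel

theorem inv3 : ∀ p : A5, (p * p = 1 ∧ p * w0 * p⁻¹ = w0⁻¹) → ∃ i : Fin 3, p = s0 * w0 ^ (i : ℕ) := by
  decide +kernel

set_option synthInstance.maxSize 100000 in
/-- the key choice: in `A5` with commuting involutions `p`, `q` and `v` of order 5 inverted by `p`. -/
theorem choose_b : ∀ p : A5, (p * p = 1 ∧ p ≠ 1) → ∀ q : A5, (q * q = 1 ∧ q ≠ 1 ∧ q ≠ p ∧ p * q = q * p) →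
    ∀ v : A5, (v ^ 5 = 1 ∧ v ≠ 1 ∧ p * v * p = v⁻¹) → ((p * v * q) ^ 3 = 1 ∨ (p * v ^ 2 * q) ^ 3 = 1) := by
  decide +kernel

set_option synthInstance.maxSize 100000 in
theorem icos : ∀ q : A5, (q * q = 1 ∧ q ≠ 1) → ∀ p : A5, (p * p = 1 ∧ p ≠ 1 ∧ p ≠ q ∧ p * q = q * p) →
    ∀ r : A5, (r * r = 1 ∧ r ≠ p ∧ (r * p) ^ 3 = 1) → (q * r) ^ 5 = 1 ∧ (q * r * p) ^ 5 = 1 := by
  decide +kernel

end Cfsg.Agent.SporRec.J1.A5More
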