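import Cfsg.Agent.SporRec.J1.Machine

/-!
Certificates (coset enumerations) for the recognition of `J1`.
-/

set_option autoImplicit false

namespace Cfsg.Agent.SporRec.J1.Certs

open Cfsg.Agent.SporRec.J1.Machine

/-- `<c,d,e>` over the trivial subgroup, generators c=0, d=1, e=2 -/
def sixtyRules : List (ℕ × List ℕ) := [(0, [2, 0, 2]), (2, [0, 2, 0]), (1, [2, 1, 2, 1, 2]), (2, [1, 2, 1, 2, 1]), (0, [1, 0, 1, 0, 1, 0, 1, 0, 1]), (1, [0, 1, 0, 1, 0, 1, 0, 1, 0]), (2, [1, 0, 2, 1, 0, 2, 1, 0, 2, 1, 0, 2, 1, 0]), (2, [0, 1, 2, 0, 1, 2, 0, 1, 2, 0, 1, 2, 0, 1]), (1, [2, 0, 1, 2, 0, 1, 2, 0, 1, 2, 0, 1, 2, 0])]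

/-- spanning tree for `sixtyRules` -/
def sixtyTree : List (ℕ × ℕ) := [(0, 0), (0, 1), (0, 2), (1, 1), (1, 2), (2, 0), (2, 2), (3, 1), (4, 0), (4, 2), (5, 1), (6, 1), (6, 2), (7, 1), (8, 0), (9, 1), (9, 2), (10, 1), (11, 0), (12, 0), (12, 2), (13, 1), (14, 0), (15, 1), (16, 0), (16, 2), (17, 1), (18, 0), (19, 1), (20, 2), (21, 1), (22, 0), (23, 1), (24, 0), (24, 2), (25, 2), (26, 1), (27, 0), (28, 1), (29, 0), (29, 2), (30, 1), (31, 0), (32, 1), (33, 0), (33, 2), (34, 2), (36, 1), (37, 0), (38, 1), (39, 0), (39, 2), (40, 2), (42, 0), (43, 1), (44, 0), (44, 2), (45, 2), (47, 1)]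

/-- operations for `sixtyRules` -/
def sixtyOps : List Op := [.R 3 0, .R 7 0, .R 8 3, .R 10 0, .R 11 3, .R 15 1, .R 20 5, .R 19 1, .R 21 0, .R 22 3, .R 26 0, .R 27 3, .R 34 5, .R 32 1, .R 35 2, .R 35 0, .R 42 3, .R 38 1, .R 41 2, .R 41 0, .R 53 8, .R 51 7, .R 52 0, .R 45 5, .R 50 6, .R 50 0, .R 51 2, .R 46 0, .R 49 2, .R 48 4, .R 54 1]

/-- `<b,c,d,e>` over `<c,d,e>`, generators b=0, c=1, d=2, e=3 -/
def elevenRules : List (ℕ × List ℕ) := [(3, [1, 3, 1]), (1, [3, 1, 3]), (3, [0, 3, 0]), (0, [3, 0, 3]), (0, [2, 0, 2]), (2, [0, 2, 0]), (1, [0, 1, 0, 1, 0]), (0, [1, 0, 1, 0, 1]), (3, [2, 3, 2, 3, 2]), (2, [3, 2, 3, 2, 3]), (1, [2, 3, 1, 2, 3, 1, 2, 3, 1, 2, 3, 1, 2, 3]), (2, [1, 0, 2, 1, 0, 2, 1, 0, 2, 1, 0, 2, 1, 0])]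

/-- spanning tree for `elevenRules` -/
def elevenTree : List (ℕ × ℕ) := [(0, 0), (1, 1), (2, 2), (3, 1), (3, 3), (4, 0), (4, 3), (6, 3), (7, 2), (8, 2)]

/-- operations for `elevenRules` -/
def elevenOps : List Op := [.R 1 2, .R 1 5, .R 2 0, .R 2 7, .R 3 4, .R 5 3, .R 5 9, .R 4 11, .R 6 6, .R 5 1, .R 7 3, .R 8 1, .R 9 4, .R 9 8, .R 9 10]

/-- `<a,b,c,d,e>` over `<b,c,d,e>`, generators a=0, ..., e=4 -/
def bigRules : List (ℕ × List ℕ) := [(2, [0, 2, 0]), (4, [1, 4, 1]), (1, [4, 1, 4]), (3, [1, 3, 1]), (1, [3, 1, 3]), (4, [0, 4, 0]), (0, [4, 0, 4]), (3, [0, 3, 0]), (0, [3, 0, 3]), (0, [2, 0, 2]), (2, [4, 2, 4]), (4, [2, 4, 2]), (4, [3, 4, 3, 4, 3]), (3, [4, 3, 4, 3, 4]), (2, [1, 2, 1, 2, 1]), (1, [2, 1, 2, 1, 2]), (1, [0, 1, 0, 1, 0, 1, 0, 1, 0]), (0, [1, 0, 1, 0, 1, 0, 1, 0, 1]), (3, [2, 3, 2, 3, 2, 3, 2, 3, 2]), (2, [3, 2,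 3, 2, 3, 2, 3, 2, 3]), (2, [3, 1, 2, 3, 1, 2, 3, 1, 2, 3, 1, 2, 3, 1]), (3, [1, 2, 3, 1, 2, 3, 1, 2, 3, 1, 2, 3, 1, 2]), (3, [2, 1, 3, 2, 1, 3, 2, 1, 3, 2, 1, 3, 2, 1]), (2, [4, 3, 2, 4, 3, 2, 4, 3, 2, 4, 3, 2, 4, 3]), (4, [3, 2, 4, 3, 2, 4, 3, 2, 4, 3, 2, 4, 3, 2]), (0, [1, 2, 0, 1, 2, 4, 0, 1, 2, 0, 1, 2, 0, 1, 2]), (4, [0, 1, 2, 0, 1, 2, 0, 1, 2, 0, 1, 2, 0, 1, 2]), (1, [0, 4, 2, 1, 0, 2, 1, 0, 2, 1, 0, 2, 1, 0, 2]), (4, [2, 1, 0, 2, 1, 0, 2, 1, 0, 2, 1, 0, 2, 1, 0])]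

/-- spanning tree for `bigRules` -/
def bigTree : List (ℕ × ℕ) := [(0, 0), (1, 1), (2, 0), (2, 2), (3, 1), (3, 2), (4, 3), (5, 2), (6, 1), (6, 3), (7, 2), (7, 4), (8, 1), (8, 3), (9, 3), (10, 2), (10, 4), (11, 1), (11, 4), (13, 3), (14, 2), (14, 4), (15, 2), (15, 4), (16, 1), (16, 3), (16, 4), (18, 4), (19, 3), (20, 2), (20, 4), (21, 1), (21, 3), (21, 4), (23, 1), (23, 3), (23, 4), (25, 0), (25, 3), (25, 4), (26, 4), (27, 3), (28, 3), (30, 1), (30, 3), (30, 4), (32, 0), (32, 3), (32, 4), (33, 4), (34, 3), (35, 0), (35, 3), (35, 4), (36, 2), (36, 4), (37, 3), (38, 1), (38, 3), (38, 4), (39, 2), (39, 4), (40, 3), (41, 3), (44, 0), (44, 3), (44, 4), (45, 2), (45, 4), (46, 3), (47, 1), (47, 3), (47, 4), (48, 2), (48, 4), (49, 3), (50, 3), (52, 1), (52, 3), (52, 4), (53, 4), (54, 3), (55, 4), (56, 3), (57, 2), (58, 0), (58, 2),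 (58, 4), (59, 2), (59, 4), (60, 3), (61, 4), (62, 3), (63, 2), (65, 1), (65, 3), (65, 4), (66, 4), (67, 3), (68, 4), (69, 3), (70, 2), (71, 3), (72, 2), (72, 4), (73, 3), (74, 4), (75, 3), (76, 2), (78, 0), (78, 2), (78, 3), (78, 4), (79, 4), (80, 3), (81, 3), (82, 2), (83, 3), (84, 2), (85, 1), (85, 3), (86, 2), (86, 4), (87, 3), (87, 4), (88, 3), (90, 3), (91, 2), (92, 3), (93, 2), (94, 3), (95, 3), (96, 4), (97, 3), (98, 3), (99, 2), (100, 3), (101, 2), (102, 1), (102, 3), (103, 2), (103, 4), (104, 4), (105, 3), (106, 2), (107, 3), (108, 2), (109, 3), (110, 3), (111, 3), (112, 2), (112, 4), (113, 3), (114, 3), (115, 2), (116, 2), (117, 1), (117, 3), (119, 1), (120, 0), (120, 3), (122, 3), (123, 3), (124, 2), (124, 4), (125, 3), (126, 2), (127, 2), (128, 1), (128, 3), (130, 3), (131, 2), (131, 4), (132, 2), (132, 4), (133,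 3), (134, 2), (135, 2), (136, 1), (136, 3), (138, 1), (139, 0), (139, 3), (141, 4), (144, 2), (145, 3), (147, 3), (150, 2), (150, 4), (152, 3), (153, 2), (154, 2), (155, 1), (155, 3), (156, 1), (156, 3), (157, 0), (157, 3), (158, 2), (158, 4), (159, 0), (162, 2), (162, 4), (163, 2), (164, 1), (164, 3), (164, 4), (167, 1), (167, 3), (169, 3), (170, 2), (170, 4), (171, 4), (176, 2), (177, 1), (177, 3), (179, 0), (181, 0), (182, 1), (188, 1), (188, 3), (188, 4), (190, 2), (191, 1), (191, 3), (192, 1), (192, 3), (193, 0), (193, 3), (194, 2), (194, 4), (195, 0), (202, 1), (202, 3), (202, 4), (205, 4), (207, 3), (208, 3), (209, 2), (209, 4), (210, 2), (214, 1), (217, 1), (223, 1), (224, 0), (224, 3), (225, 2), (225, 4), (226, 0), (226, 3), (228, 1), (228, 3), (229, 4), (233, 4), (239, 1), (239, 4), (243, 0), (244, 0), (246, 2), (246,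 4), (249, 1), (249, 3), (251, 2), (252, 4), (255, 0)]

/-- operations for `bigRules` -/
def bigOps : List Op := [.R 1 0, .R 1 5, .R 1 7, .R 2 1, .R 2 3, .R 3 5, .R 3 7, .R 4 11, .R 4 15, .R 5 1, .R 5 3, .R 5 17, .R 4 9, .R 6 5, .R 7 4, .R 8 9, .R 8 11, .R 9 1, .R 7 8, .R 12 2, .R 12 13, .R 9 14, .R 9 25, .R 13 1, .R 14 8, .R 10 4, .R 11 9, .R 12 6, .R 17 7, .R 11 22, .R 18 14, .R 12 10, .R 14 4, .R 15 8, .R 21 9, .R 22 6, .R 22 13, .R 17 2, .R 24 3, .R 18 8, .R 26 0, .R 17 10, .R 19 6, .R 19 2, .R 28 10, .R 23 9, .R 22 2, .R 24 6, .R 31 3, .R 33 8, .R 33 19, .R 22 10, .R 34 6, .R 25 14, .R 24 10, .R 26 4, .R 27 2, .R 28 6, .R 41 0, .R 29 8, .R 29 4, .R 29 12, .R 29 23, .R 32 14, .R 36 8, .R 31 10, .R 37 6, .R 33 4, .R 34 2, .R 50 6, .R 50 10, .R 51 8, .R 38 0, .R 36 4, .R 37 2, .R 40 10, .R 39 8, .R 40 6, .R 61 15, .R 41 2,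 .R 42 4, .R 42 12, .R 42 23, .R 43 6, .R 47 0, .R 45 4, .R 53 20, .R 46 2, .R 49 10, .R 55 9, .R 55 15, .R 55 18, .R 56 6, .R 57 8, .R 48 8, .R 49 6, .R 61 18, .R 74 4, .R 50 2, .R 51 4, .R 51 12, .R 51 23, .R 77 6, .R 53 8, .R 54 6, .R 60 0, .R 56 2, .R 57 4, .R 56 10, .R 57 12, .R 59 16, .R 86 3, .R 60 2, .R 61 9, .R 73 27, .R 89 1, .R 62 6, .R 71 10, .R 63 8, .R 62 10, .R 71 6, .R 92 2, .R 63 12, .R 64 2, .R 66 8, .R 79 0, .R 67 6, .R 73 0, .R 69 2, .R 81 10, .R 70 4, .R 69 10, .R 83 2, .R 83 6, .R 70 12, .R 84 6, .R 85 9, .R 72 4, .R 74 9, .R 89 7, .R 75 6, .R 76 8, .R 104 4, .R 75 10, .R 107 2, .R 76 12, .R 77 2, .R 87 15, .R 110 26, .R 79 4, .R 80 2, .R 110 10, .R 111 6, .R 81 6, .R 82 8, .R 82 12, .R 84 2, .R 85 11, .R 121 19, .R 87 9, .R 97 15, .R 122 1, .R 88 6, .R 90 2, .R 95 10, .R 88 10, .R 95 6, .R 110 2, .R 91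 4, .R 91 12, .R 93 6, .R 94 9, .R 103 8, .R 129 4, .R 94 11, .R 94 15, .R 96 4, .R 98 6, .R 114 0, .R 99 8, .R 99 12, .R 101 2, .R 118 4, .R 118 8, .R 118 12, .R 118 23, .R 102 11, .R 119 6, .R 119 18, .R 121 8, .R 121 12, .R 140 0, .R 105 2, .R 105 10, .R 107 6, .R 142 13, .R 106 12, .R 108 6, .R 143 2, .R 109 9, .R 141 15, .R 129 12, .R 142 6, .R 146 2, .R 109 11, .R 109 15, .R 112 8, .R 124 4, .R 114 2, .R 115 4, .R 150 8, .R 115 12, .R 116 6, .R 117 9, .R 117 11, .R 120 14, .R 120 1, .R 121 4, .R 129 20, .R 141 9, .R 160 7, .R 124 8, .R 134 4, .R 126 8, .R 126 12, .R 127 2, .R 132 8, .R 149 4, .R 151 28, .R 152 10, .R 165 13, .R 128 11, .R 130 6, .R 131 8, .R 131 4, .R 148 24, .R 148 10, .R 149 24, .R 151 2, .R 152 6, .R 133 2, .R 149 10, .R 151 6, .R 134 12, .R 135 6, .R 136 9, .R 136 11, .R 139 14, .R 139 1, .R 159 3,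 .R 140 4, .R 146 20, .R 161 1, .R 142 10, .R 183 6, .R 184 7, .R 145 11, .R 147 6, .R 184 2, .R 148 8, .R 160 4, .R 148 4, .R 165 2, .R 174 3, .R 153 12, .R 154 2, .R 189 6, .R 188 9, .R 155 11, .R 156 6, .R 158 8, .R 157 1, .R 159 10, .R 178 22, .R 178 4, .R 179 1, .R 181 10, .R 160 0, .R 158 4, .R 171 19, .R 180 12, .R 172 15, .R 172 18, .R 187 1, .R 179 13, .R 180 2, .R 187 10, .R 160 5, .R 164 9, .R 165 6, .R 175 7, .R 176 2, .R 167 9, .R 167 11, .R 168 22, .R 171 8, .R 168 4, .R 169 1, .R 165 10, .R 169 14, .R 169 25, .R 170 4, .R 172 9, .R 186 5, .R 201 2, .R 173 6, .R 186 0, .R 173 2, .R 173 13, .R 180 10, .R 177 11, .R 178 6, .R 180 8, .R 182 0, .R 182 5, .R 201 7, .R 185 3, .R 187 8, .R 197 22, .R 198 8, .R 205 0, .R 216 5, .R 197 4, .R 189 10, .R 215 21, .R 216 2, .R 191 11, .R 222 6, .R 193 14, .R 221 8, .R 193 1,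 .R 196 8, .R 217 5, .R 218 0, .R 194 4, .R 199 9, .R 211 7, .R 218 4, .R 219 1, .R 200 6, .R 217 7, .R 219 0, .R 197 5, .R 201 0, .R 214 7, .R 204 22, .R 209 8, .R 215 14, .R 204 4, .R 206 8, .R 206 14, .R 208 1, .R 203 10, .R 207 6, .R 207 2, .R 212 13, .R 213 6, .R 216 0, .R 210 12, .R 212 2, .R 221 14, .R 209 4, .R 210 8, .R 215 9, .R 223 7, .R 221 11, .R 232 2, .R 215 1, .R 241 3, .R 224 1, .R 226 10, .R 228 0, .R 225 4, .R 235 18, .R 237 8, .R 238 5, .R 240 2, .R 238 10, .R 241 6, .R 228 5, .R 227 4, .R 229 14, .R 243 1, .R 246 17, .R 251 7, .R 229 8, .R 245 4, .R 231 2, .R 243 3, .R 243 10, .R 235 2, .R 240 3, .R 240 6, .R 242 10, .R 244 3, .R 240 10, .R 242 6, .R 248 7, .R 245 5, .R 249 0, .R 255 24, .R 256 2, .R 248 2, .R 255 10, .R 259 3, .R 251 1, .R 260 6, .R 250 8, .R 252 0, .R 257 5, .R 259 9, .R 261 7, .R 262 4,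 .R 253 6, .R 257 0, .R 257 7, .R 258 2, .R 257 16, .R 258 3, .R 261 0, .R 263 1]

/-- the collapsing enumeration, generators a=0, ..., e=4 -/
def badRules : List (ℕ × List ℕ) := [(2, [0, 2, 0]), (4, [1, 4, 1]), (1, [4, 1, 4]), (3, [1, 3, 1]), (1, [3, 1, 3]), (4, [0, 4, 0]), (0, [4, 0, 4]), (3, [0, 3, 0]), (0, [3, 0, 3]), (0, [2, 0, 2]), (2, [4, 2, 4]), (4, [2, 4, 2]), (4, [3, 4, 3, 4, 3]), (3, [4, 3, 4, 3, 4]), (2, [1, 2, 1, 2, 1]), (1, [2, 1, 2, 1, 2]), (1, [0, 1, 0, 1, 0, 1, 0, 1, 0]), (0, [1, 0, 1, 0, 1, 0, 1, 0, 1]), (2, [3, 2, 3, 2, 3, 2, 3, 2, 3]), (3, [2, 1, 3, 2, 1, 3, 2, 1, 3, 2, 1, 3, 2, 1]), (0, [1, 2, 0, 1, 2, 0, 1, 2, 0, 1, 2, 0, 1, 2]), (0, [4, 3, 2, 4, 3, 2, 4, 3, 2, 4, 3, 2, 4, 3, 2]), (2, [0, 4, 3, 2, 4, 3, 2, 4, 3, 2, 4, 3, 2, 4, 3]), (3, [4, 2, 3, 4, 2, 3, 4, 2, 3, 4, 0, 2, 3, 4, 2])]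

/-- spanning tree for `badRules` -/
def badTree : List (ℕ × ℕ) := [(0, 1), (1, 0), (1, 2), (2, 1), (2, 2), (3, 3), (4, 0), (4, 2), (5, 1), (5, 3), (6, 2), (6, 4), (7, 2), (8, 1), (8, 3), (9, 0), (9, 3), (10, 2), (10, 4), (11, 1), (11, 4), (13, 1), (13, 3), (14, 0), (14, 3), (15, 2), (15, 4), (16, 1), (16, 3), (17, 2), (17, 4), (18, 1), (18, 3), (18, 4), (20, 4), (21, 3), (22, 3), (23, 2), (23, 4), (24, 3), (25, 2), (25, 4), (26, 1), (26, 3), (26, 4), (28, 3), (29, 2), (29, 4), (30, 1), (30, 3), (30, 4), (32, 0), (32, 3), (32, 4), (33, 4), (34, 3), (35, 3), (36, 2), (37, 2), (37, 4), (38, 1), (38, 3), (38, 4), (40, 2), (40, 4), (41, 1), (41, 3), (41, 4), (43, 0), (43, 3), (43, 4), (44, 4), (45, 3), (46, 2), (46, 4), (47, 1), (47, 3), (47, 4), (49, 0), (49, 3), (49, 4), (50, 2), (50, 4), (51, 3), (52, 1), (52, 3), (52, 4), (53,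 2), (53, 4), (54, 3)]

/-- operations for `badRules` -/
def badOps : List Op := [.R 0 21, .R 1 1, .R 1 3, .R 2 5, .R 2 7, .R 3 11, .R 3 15, .R 4 1, .R 4 3, .R 3 9, .R 5 5, .R 6 4, .R 7 5, .R 7 7, .R 7 16, .R 8 11, .R 9 1, .R 6 8, .R 12 2, .R 12 13, .R 8 9, .R 13 5, .R 9 14, .R 14 1, .R 16 5, .R 10 4, .R 11 9, .R 12 6, .R 19 7, .R 11 19, .R 20 14, .R 12 10, .R 22 1, .R 22 14, .R 22 20, .R 15 8, .R 16 0, .R 24 5, .R 24 16, .R 15 4, .R 27 13, .R 28 1, .R 28 14, .R 28 17, .R 17 8, .R 19 2, .R 31 3, .R 20 8, .R 33 0, .R 19 10, .R 21 6, .R 21 2, .R 35 10, .R 23 4, .R 37 8, .R 26 9, .R 27 6, .R 39 7, .R 25 8, .R 40 4, .R 27 2, .R 42 3, .R 44 18, .R 27 10, .R 29 4, .R 46 8, .R 30 9, .R 31 6, .R 48 7, .R 32 14, .R 31 10, .R 33 4, .R 34 2, .R 35 6, .R 55 0, .R 36 8, .R 36 4, .R 36 12, .R 56 22, .R 55 23, .R 56 11, .R 57 6, .R 59 9, .R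 39 2, .R 60 3, .R 60 6, .R 44 8, .R 62 0, .R 39 10, .R 45 6, .R 41 9, .R 42 6, .R 65 2, .R 65 7, .R 43 14, .R 42 10, .R 44 4, .R 45 2, .R 72 10, .R 74 9, .R 48 2, .R 75 3, .R 75 6, .R 50 8, .R 48 10, .R 51 6, .R 52 0, .R 50 4, .R 51 2, .R 54 10, .R 53 8, .R 54 6, .R 88 15, .R 55 2, .R 56 4, .R 56 19, .X 51 0, .X 51 1, .X 51 2, .X 51 3, .X 51 4, .X 78 2, .X 78 4, .X 81 4, .X 31 4, .X 30 3, .X 48 1, .X 48 4, .X 47 1, .X 47 3, .X 49 0, .X 49 3, .X 17 3, .X 50 2, .X 50 4, .X 75 0, .X 75 4, .X 29 3, .X 9 2, .X 19 2, .X 19 4, .X 46 2, .X 46 3, .X 16 2, .X 14 1, .X 14 3, .X 34 1, .X 34 3, .X 34 4, .X 10 3, .X 28 2, .X 28 3, .X 24 1, .X 24 3, .X 8 0, .X 8 3, .X 25 0, .X 25 1, .X 25 2, .X 25 4, .X 54 0, .X 54 3, .X 54 4, .X 56 2, .X 18 2, .X 18 3, .X 18 4, .X 6 4, .X 40 2, .X 40 4, .X 13 0, .X 13 1, .X 13 3, .X 15 2, .X 15 4, .X 41 1,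 .X 41 3, .X 41 4, .X 87 4, .X 32 0, .X 32 3, .X 32 4, .X 58 3, .X 58 4, .X 22 3, .X 23 2, .X 23 4, .X 26 1, .X 26 3, .X 26 4, .X 52 1, .X 52 3, .X 55 1, .X 53 2, .X 37 2, .X 37 4, .X 38 1, .X 38 3, .X 38 4, .X 43 0, .X 43 3, .X 43 4, .X 44 4, .X 45 3]

/-- Coxeter group H3, generators b=0, c=1, d=2 -/
def h3Rules : List (ℕ × List ℕ) := [(0, [2, 0, 2]), (2, [0, 2, 0]), (0, [1, 0, 1, 0, 1]), (1, [0, 1, 0, 1, 0]), (1, [2, 1, 2, 1, 2, 1, 2, 1, 2]), (2, [1, 2, 1, 2, 1, 2, 1, 2, 1])]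

/-- spanning tree for `h3Rules` -/
def h3Tree : List (ℕ × ℕ) := [(0, 0), (0, 1), (0, 2), (1, 1), (1, 2), (2, 0), (2, 2), (3, 1), (4, 0), (4, 2), (5, 1), (6, 2), (7, 1), (8, 0), (8, 2), (9, 2), (10, 1), (11, 0), (11, 2), (12, 1), (13, 0), (13, 2), (14, 2), (15, 1), (16, 1), (17, 0), (17, 2), (18, 2), (19, 1), (20, 0), (20, 2), (21, 2), (22, 1), (23, 1), (24, 0), (25, 0), (25, 2), (26, 2), (27, 1), (28, 1), (29, 0), (30, 2), (31, 1), (32, 1), (33, 0), (34, 0), (34, 2), (36, 2), (37, 1), (38, 1), (39, 0), (40, 0), (40, 2), (42, 1), (43, 0), (44, 0), (44, 2), (46, 2), (47, 1), (48, 1), (49, 0), (50, 0), (50, 2), (52, 2), (53, 1), (54, 0), (54, 2), (56, 2), (57, 1), (58, 1), (59, 0), (60, 0), (60, 2), (62, 2), (63, 1), (64, 1), (65, 0), (66, 2), (67, 1), (68, 1), (69, 0), (70, 0), (70, 2), (72, 2), (73, 1), (74, 1), (75, 0), (76,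 0), (76, 2), (78, 1), (79, 0), (80, 0), (80, 2), (82, 2), (84, 1), (85, 0), (86, 0), (86, 2), (88, 2), (90, 0), (90, 2), (92, 2), (94, 1), (95, 0), (95, 2), (97, 2), (99, 1), (100, 2), (102, 1), (103, 2), (104, 2), (106, 1), (107, 2), (108, 1), (109, 2), (111, 1), (112, 2), (114, 2), (116, 2)]

/-- operations for `h3Rules` -/
def h3Ops : List Op := [.R 3 0, .R 6 3, .R 7 0, .R 10 0, .R 14 3, .R 15 0, .R 19 0, .R 21 3, .R 22 0, .R 24 5, .R 26 3, .R 27 0, .R 29 5, .R 31 0, .R 35 1, .R 35 3, .R 37 0, .R 43 5, .R 41 1, .R 41 3, .R 45 3, .R 47 0, .R 55 1, .R 51 3, .R 53 0, .R 59 5, .R 55 3, .R 57 0, .R 61 3, .R 63 0, .R 71 1, .R 67 0, .R 69 5, .R 71 3, .R 73 0, .R 75 5, .R 77 3, .R 81 1, .R 81 3, .R 83 4, .R 83 0, .R 87 1, .R 87 3, .R 89 4, .R 89 0, .R 91 3, .R 93 0, .R 96 3, .R 101 4, .R 98 0, .R 101 0, .R 103 2, .R 105 0, .R 107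 2, .R 110 4, .R 110 0, .R 114 2, .R 113 0, .R 115 4, .R 117 4, .R 118 0]

end Cfsg.Agent.SporRec.J1.Certs
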