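import Cfsg.Agent.SporRec.J1.Pair

/-!
The two configurations of a group of type `J1` and the transfer lemma.
-/

set_option autoImplicit false

namespace Cfsg.Agent.SporRec.J1.Transfer

open Cfsg.Agent.SporRec.J1.Defs Cfsg.Agent.SporRec.J1.CentFacts Cfsg.Agent.SporRec.J1.Pair
open Cfsg.Agent.SporRec.J1.A5More (s0 d0 c0 c1 w0)

variable {G : Type*} [Group G]

theorem F_conj {t y : G} (g : G) (hy : y ∈ F t) : g * y * g⁻¹ ∈ F (g * t * g⁻¹) := by
  have h1 : (Subgroup.centralizer ({t} : Set G)).map (MulAut.conj g).toMonoidHom ≤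
      Subgroup.centralizer ({g * t * g⁻¹} : Set G) := by
    rintro _ ⟨c, hc, rfl⟩
    have hc' : c * t = t * c := Subgroup.mem_centralizer_singleton_iff.1 hc
    rw [Subgroup.mem_centralizer_singleton_iff]
    show g * c * g⁻¹ * (g * t * g⁻¹) = g * t * g⁻¹ * (g * c * g⁻¹)
    calc g * c * g⁻¹ * (g * t * g⁻¹) = g * (c * t) * g⁻¹ := by group
      _ = g * (t * c) * g⁻¹ := by rw [hc']
      _ = _ := by group
  have h2 : (F t).map (MulAut.conj g).toMonoidHom ≤ F (g * t * g⁻¹) := by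
    rw [F, Subgroup.map_commutator]
    exact Subgroup.commutator_mono h1 h1
  exact h2 ⟨y, hy, rfl⟩

/-- the standard setup -/
structure Setup (a v : G) (φ : A5 →* G) : Prop where
  loc : Local G
  ha : orderOf a = 2
  P : CentData a φ
  D : PD (φ w0) v a 3 5

variable {a v : G} {φ : A5 →* G}

namespace Setup

theorem aa (S : Setup a v φ) : a * a = 1 := sq_of_two S.ha

theorem v5 (S : Setup a v φ) : v ^ 5 = 1 := by rw [← S.D.yq, pow_orderOf_eq_one]

theorem v_ne (S : Setup a v φ) : v ≠ 1 := by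
  intro h
  have := S.D.yq
  rw [h, orderOf_one] at this
  omega

theorem v_ne_inv (S : Setup a v φ) : v ≠ v⁻¹ := by
  intro h
  apply S.v_ne
  have h1 : v * v = 1 := by
    nth_rewrite 2 [h]; exact mul_inv_cancel v
  calc v = v ^ 5 * ((v * v) * (v * v))⁻¹ := by group
    _ = 1 := by rw [S.v5, h1]; simp

theorem s_inv (_ : Setup a v φ) : φ s0 * φ w0 * (φ s0)⁻¹ = (φ w0)⁻¹ := by
  rw [← map_inv, ← map_inv, ← map_mul, ← map_mul]
  congr 1
  decide +kernel

/-- dichotomy -/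
theorem dich (S : Setup a v φ) : φ s0 * v * (φ s0)⁻¹ = v ∨ φ s0 * v * (φ s0)⁻¹ = v⁻¹ := by
  have hss : φ s0 * φ s0 = 1 := by rw [← map_mul, A5More.s0_sq, map_one]
  have hs' : (φ s0)⁻¹ = φ s0 := inv_eq_of_mul_eq_one_right hss
  have hz : (φ s0 * v * (φ s0)⁻¹) * φ w0 = φ w0 * (φ s0 * v * (φ s0)⁻¹) := by
    have h1 : φ w0 = φ s0 * (φ w0)⁻¹ * (φ s0)⁻¹ := by
      have := S.s_inv
      calc φ w0 = ((φ w0)⁻¹)⁻¹ := by rw [inv_inv]
        _ = (φ s0 * φ w0 * (φ s0)⁻¹)⁻¹ := by rw [this]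
        _ = _ := by group
    have h2 : v * (φ w0)⁻¹ = (φ w0)⁻¹ * v := (Commute.inv_right (show Commute v (φ w0) from S.D.xy)).eq
    rw [h1]
    calc φ s0 * v * (φ s0)⁻¹ * (φ s0 * (φ w0)⁻¹ * (φ s0)⁻¹) = φ s0 * (v * (φ w0)⁻¹) * (φ s0)⁻¹ := by group
      _ = φ s0 * ((φ w0)⁻¹ * v) * (φ s0)⁻¹ := by rw [h2]
      _ = _ := by group
  obtain ⟨j, hj⟩ := S.D.form1 hz (by rw [conj_pow, S.v5, mul_one, mul_inv_cancel])
  have hjj : v ^ (j * j) = v := by
    rw [zpow_mul, ← hj, conj_zpow, ← hj, hs']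
    calc φ s0 * (φ s0 * v * φ s0) * φ s0 = (φ s0 * φ s0) * v * (φ s0 * φ s0) := by
          simp only [mul_assoc]
      _ = v := by rw [hss, one_mul, mul_one]
  have hdiv : ((5 : ℕ) : ℤ) ∣ (j - 1) * (j + 1) := by
    rw [← S.D.yq, orderOf_dvd_iff_zpow_eq_one]
    have : (j - 1) * (j + 1) = j * j + (-1) := by ring
    rw [this, zpow_add, hjj, zpow_neg, zpow_one, mul_inv_cancel]
  rcases (Nat.prime_iff_prime_int.mp Nat.prime_five).dvd_or_dvd hdiv with h | h
  · left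
    rw [← S.D.yq, orderOf_dvd_iff_zpow_eq_one] at h
    rw [hj]
    calc v ^ j = v ^ (j - 1) * v := by rw [← zpow_add_one]; congr 1; ring
      _ = v := by rw [h, one_mul]
  · right
    rw [← S.D.yq, orderOf_dvd_iff_zpow_eq_one, zpow_add_one] at h
    rw [hj]
    exact eq_inv_of_mul_eq_one_left h

theorem commute_of_pow (S : Setup a v φ) {z : G} {j : ℤ} (hj : v ^ j ≠ 1)
    (hz : Commute z (v ^ j)) : Commute z v := by
  have h1 : Commute z ((v ^ j) ^ (j ^ 3)) := hz.zpow_right _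
  have h2 : (v ^ j) ^ (j ^ 3) = v := by
    rw [← zpow_mul]
    have h5 : ¬ ((5 : ℕ) : ℤ) ∣ j := by
      rw [← S.D.yq, orderOf_dvd_iff_zpow_eq_one]; exact hj
    have h6 : ((5 : ℕ) : ℤ) ∣ j * j ^ 3 - 1 := by
      have : j % 5 = 1 ∨ j % 5 = 2 ∨ j % 5 = 3 ∨ j % 5 = 4 := by omega
      have e : j * j ^ 3 - 1 = j ^ 4 - 1 := by ring
      rw [e]
      have h8 : (1 : ℤ) ≡ j ^ 4 [ZMOD ((5 : ℕ) : ℤ)] := by
        rcases this with h | h | h | h
        · have : j ≡ 1 [ZMOD ((5 : ℕ) : ℤ)] := h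
          exact (this.pow 4).symm
        · have : j ≡ 2 [ZMOD ((5 : ℕ) : ℤ)] := h
          exact ((this.pow 4).trans (by decide)).symm
        · have : j ≡ 3 [ZMOD ((5 : ℕ) : ℤ)] := h
          exact ((this.pow 4).trans (by decide)).symm
        · have : j ≡ 4 [ZMOD ((5 : ℕ) : ℤ)] := h
          exact ((this.pow 4).trans (by decide)).symm
      exact h8.dvd
    have h7 : v ^ (j * j ^ 3 - 1) = 1 := by
      rw [← orderOf_dvd_iff_zpow_eq_one, S.D.yq]; exact h6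
    calc v ^ (j * j ^ 3) = v ^ (j * j ^ 3 - 1) * v := by rw [← zpow_add_one]; congr 1; ring
      _ = v := by rw [h7, one_mul]
  rwa [h2] at h1

/-- The transfer lemma. -/
theorem transfer (S : Setup a v φ) {u c a₁ f : G} (hc : orderOf c = 2) (hu : orderOf u = 3)
    (hcu : c * u = u * c) (ha₁ : a₁ * a₁ = 1) (hac : a₁ * c = c * a₁)
    (hau : a₁ * u * a₁⁻¹ = u⁻¹) (hf5 : f ^ 5 = 1) (hf1 : f ≠ 1) (hfu : f * u = u * f)
    (haf : a₁ * f = f * a₁) :
    (φ s0 * v * (φ s0)⁻¹ = v → a₁ ∈ F c) ∧ (φ s0 * v * (φ s0)⁻¹ = v⁻¹ → a₁ ∉ F c) := by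
  obtain ⟨g, hg⟩ := S.loc.conj c a hc S.ha
  have P := S.P
  -- u₁
  have hu1a : (g * u * g⁻¹) * a = a * (g * u * g⁻¹) := by
    rw [← hg]
    calc g * u * g⁻¹ * (g * c * g⁻¹) = g * (u * c) * g⁻¹ := by group
      _ = g * (c * u) * g⁻¹ := by rw [hcu]
      _ = _ := by group
  have hu3 : u ^ 3 = 1 := by rw [← hu, pow_orderOf_eq_one]
  have hu1 : u ≠ 1 := by rintro rfl; rw [orderOf_one] at hu; omega
  have hu13 : (g * u * g⁻¹) ^ 3 = 1 := by rw [conj_pow, hu3, mul_one, mul_inv_cancel]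
  obtain ⟨p, hp⟩ : ∃ p, g * u * g⁻¹ = φ p := by
    obtain ⟨p, hp | hp⟩ := P.cover _ hu1a
    · exact ⟨p, hp⟩
    · exfalso
      rw [hp] at hu13
      have hcc : Commute a (φ p) := P.comm p
      rw [hcc.mul_pow, pow_succ, pow_two, S.aa, one_mul, ← map_pow] at hu13
      apply P.ne ((p ^ 3)⁻¹)
      rw [map_inv]
      exact (eq_inv_of_mul_eq_one_left hu13).symm
  have hp3 : p ^ 3 = 1 := by
    apply P.inj; rw [map_pow, ← hp, hu13, map_one]
  have hp1 : p ≠ 1 := by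
    rintro rfl
    rw [map_one, conj_eq_one_iff] at hp
    exact hu1 hp
  obtain ⟨h0, hh0⟩ := A5More.conj3 p ⟨hp3, hp1⟩
  set g' := φ h0 * g with hg'
  have hg'c : g' * c * g'⁻¹ = a := by
    calc g' * c * g'⁻¹ = φ h0 * (g * c * g⁻¹) * (φ h0)⁻¹ := by rw [hg']; group
      _ = a * φ h0 * (φ h0)⁻¹ := by rw [hg, P.comm]
      _ = a := by group
  have hg'u : g' * u * g'⁻¹ = φ w0 := by
    calc g' * u * g'⁻¹ = φ h0 * (g * u * g⁻¹) * (φ h0)⁻¹ := by rw [hg']; group
      _ = φ w0 := by rw [hp, ← map_inv, ← map_mul, ← map_mul, hh0]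
  -- s'
  set s' := g' * a₁ * g'⁻¹ with hs'
  have hs'a : s' * a = a * s' := by
    rw [← hg'c]
    calc s' * (g' * c * g'⁻¹) = g' * (a₁ * c) * g'⁻¹ := by rw [hs']; group
      _ = g' * (c * a₁) * g'⁻¹ := by rw [hac]
      _ = _ := by rw [hs']; group
  have hs's' : s' * s' = 1 := by
    calc s' * s' = g' * (a₁ * a₁) * g'⁻¹ := by rw [hs']; group
      _ = 1 := by rw [ha₁]; group
  have hs'w : s' * φ w0 * s'⁻¹ = (φ w0)⁻¹ := by
    rw [← hg'u]
    calc s' * (g' * u * g'⁻¹) * s'⁻¹ = g' * (a₁ * u * a₁⁻¹) * g'⁻¹ := by rw [hs']; group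
      _ = (g' * u * g'⁻¹)⁻¹ := by rw [hau]; group
  -- f'
  set f' := g' * f * g'⁻¹ with hf'
  have hf'w : f' * φ w0 = φ w0 * f' := by
    rw [← hg'u]
    calc f' * (g' * u * g'⁻¹) = g' * (f * u) * g'⁻¹ := by rw [hf']; group
      _ = g' * (u * f) * g'⁻¹ := by rw [hfu]
      _ = _ := by rw [hf']; group
  have hf'5 : f' ^ 5 = 1 := by rw [hf', conj_pow, hf5, mul_one, mul_inv_cancel]
  have hf'1 : f' ≠ 1 := by rw [hf', Ne, conj_eq_one_iff]; exact hf1
  obtain ⟨j, hj⟩ := S.D.form1 hf'w hf'5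
  have hs'f' : Commute s' f' := by
    show s' * f' = f' * s'
    calc s' * f' = g' * (a₁ * f) * g'⁻¹ := by rw [hs', hf']; group
      _ = g' * (f * a₁) * g'⁻¹ := by rw [haf]
      _ = _ := by rw [hs', hf']; group
  have hs'v : Commute s' v := by
    rw [hj] at hs'f' hf'1
    exact S.commute_of_pow hf'1 hs'f'
  -- s' = φ p' or a φ p'
  have hss : φ s0 * φ s0 = 1 := by rw [← map_mul, A5More.s0_sq, map_one]
  have key : ∀ p', (s' = φ p' ∨ s' = a * φ p') → ∃ i : ℕ, φ p' = φ s0 * φ w0 ^ i := by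
    intro p' hp'
    have hpp : p' * p' = 1 := by
      rcases hp' with h | h
      · apply P.inj; rw [map_mul, ← h, hs's', map_one]
      · apply P.inj
        rw [map_mul, map_one]
        have : s' * s' = φ p' * φ p' := by
          rw [h]
          calc a * φ p' * (a * φ p') = a * (φ p' * a) * φ p' := by group
            _ = a * (a * φ p') * φ p' := by rw [P.comm]
            _ = (a * a) * (φ p' * φ p') := by group
            _ = _ := by rw [S.aa, one_mul]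
        rw [← this, hs's']
    have hpw : p' * w0 * p'⁻¹ = w0⁻¹ := by
      apply P.inj
      rw [map_mul, map_mul, map_inv, map_inv]
      rcases hp' with h | h
      · rw [← h, hs'w]
      · rw [← hs'w, h]
        calc φ p' * φ w0 * (φ p')⁻¹ = (φ p' * φ w0 * (φ p')⁻¹) * (a * a⁻¹) := by group
          _ = φ (p' * w0 * p'⁻¹) * a * a⁻¹ := by rw [map_mul, map_mul, map_inv]; group
          _ = a * φ (p' * w0 * p'⁻¹) * a⁻¹ := by rw [← P.comm]
          _ = _ := by rw [map_mul, map_mul, map_inv]; group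
    obtain ⟨i, hi⟩ := A5More.inv3 p' ⟨hpp, hpw⟩
    exact ⟨i, by rw [hi, map_mul, map_pow]⟩
  have hvw : Commute v (φ w0) := S.D.xy
  have hav : ¬ Commute a v := by
    intro h
    apply S.v_ne_inv
    rw [← S.D.inv]
    have : a * v = v * a := h
    rw [this]; group
  constructor
  · intro hβ
    have hsv : Commute (φ s0) v := by
      show φ s0 * v = v * φ s0
      calc φ s0 * v = φ s0 * v * (φ s0)⁻¹ * φ s0 := by group
        _ = _ := by rw [hβ]
    have hmem : s' ∈ F a := by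
      obtain ⟨p', hp'⟩ := P.cover s' hs'a
      obtain ⟨i, hi⟩ := key p' hp'
      rcases hp' with h | h
      · exact (P.range s').mpr ⟨p', h.symm⟩
      · exfalso
        apply hav
        have h1 : Commute (φ p') v := by
          rw [hi]
          exact hsv.mul_left (hvw.symm.pow_left i)
        have h2 : a = s' * (φ p')⁻¹ := by rw [h]; group
        rw [h2]
        exact hs'v.mul_left h1.inv_left
    have := F_conj g'⁻¹ hmem
    have e1 : g'⁻¹ * s' * g'⁻¹⁻¹ = a₁ := by rw [hs']; group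
    have e2 : g'⁻¹ * a * g'⁻¹⁻¹ = c := by rw [← hg'c]; group
    rwa [e1, e2] at this
  · intro hα hmem
    have h1 := F_conj g' hmem
    rw [hg'c, ← hs'] at h1
    obtain ⟨p', hp'⟩ := (P.range s').mp h1
    obtain ⟨i, hi⟩ := key p' (Or.inl hp'.symm)
    apply S.v_ne_inv
    have h2 : φ p' * v * (φ p')⁻¹ = v := by
      rw [hp']
      have : s' * v = v * s' := hs'v
      rw [this]; group
    have h3 : φ p' * v * (φ p')⁻¹ = v⁻¹ := by
      rw [hi, ← hα]
      have h4 : φ w0 ^ i * v = v * φ w0 ^ i := (hvw.symm.pow_left i).eq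
      calc φ s0 * φ w0 ^ i * v * (φ s0 * φ w0 ^ i)⁻¹ = φ s0 * (φ w0 ^ i * v) * (φ w0 ^ i)⁻¹ * (φ s0)⁻¹ := by
            group
        _ = φ s0 * (v * φ w0 ^ i) * (φ w0 ^ i)⁻¹ * (φ s0)⁻¹ := by rw [h4]
        _ = _ := by group
    rw [h2] at h3
    exact h3

end Setup

end Cfsg.Agent.SporRec.J1.Transfer
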